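import Cfsg.Agent.Chev.CyclicTorus.E7.Twist6

/-! A rank one correction of a Frobenius twist along three cyclically permuted commuting root subgroups. -/

set_option autoImplicit false
set_option linter.unusedSectionVars false
set_option linter.style.haveILetI false
set_option maxHeartbeats 800000

open Cfsg.Lie

namespace Cfsg.Lib.CyclicTorus

open Cfsg.Lib.Chev Matrix

variable {D : ChevalleyDatum} {C : Cert} {K : Type*} [Field K]

theorem exists_act_root (S : Struct D C) (r : Fin D.nroots) {t : K} (ht : t ≠ 0) :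
    ∃ (u : ↥S.WG) (j : Fin D.rank), (u : Equiv.Perm (Fin D.nroots)) (S.sp j) = r ∧
      S.ok.nG r.val t ∈ D.monomialSubgroup K ∧
      Act S.ok (S.ok.nG r.val t) ((u : Equiv.Perm (Fin D.nroots)) * S.wp j * (u : Equiv.Perm (Fin D.nroots))⁻¹) := by
  obtain ⟨u, hu, j, hju⟩ := exists_root_rep S r
  obtain ⟨L, hL⟩ := S.exists_wpL hu
  obtain ⟨-, c, hc, ec⟩ := S.act_nL (F := K) L (S.sp j)
  have hsr : (S.sp j).val = D.simple j := S.ok.sr_eq j.isLt
  have hju' : S.wpL L (S.sp j) = r := by rw [← hL]; exact hju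
  have e : S.nL K L * S.ok.nG (D.simple j) (c⁻¹ * t) * (S.nL K L)⁻¹ = S.ok.nG r.val t := by
    rw [← hsr, (ec (c⁻¹ * t)).2, hju', mul_inv_cancel_left₀ hc]
  have en : S.ok.nG (D.simple j) (c⁻¹ * t) =
      S.ok.hG (D.simple j) (c⁻¹ * t) * S.ok.nG (D.simple j) (1 : K) := (S.sl2Rel_simple (F := K) j).n_eq _
  have ht' : c⁻¹ * t ≠ 0 := mul_ne_zero (inv_ne_zero hc) ht
  have hh : S.ok.hG (D.simple j) (c⁻¹ * t) ∈ D.diagonalSubgroup K := S.hG_mem_diag j.isLt ht'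
  have hmj : S.ok.nG (D.simple j) (c⁻¹ * t) ∈ D.monomialSubgroup K := by
    rw [en]
    refine mul_mem ?_ (S.nG_mem_mono j)
    rw [S.ok.monomialSubgroup_eq]
    exact Subgroup.mem_sup_left hh
  have hm : S.ok.nG r.val t ∈ D.monomialSubgroup K := by
    rw [← e]
    exact mul_mem (mul_mem (S.nL_mem_mono L) hmj) (inv_mem (S.nL_mem_mono L))
  refine ⟨⟨u, hu⟩, j, hju, hm, ?_⟩
  obtain ⟨L', hact, -⟩ := S.exists_act hm
  have hj : Act S.ok (S.ok.nG (D.simple j) (c⁻¹ * t)) (S.wp j) := by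
    have := S.act_mul (S.act_diag hh) (S.act_nG (F := K) j)
    rwa [one_mul, ← en] at this
  have e2 : S.ok.nG r.val t * S.nL K L = S.nL K L * S.ok.nG (D.simple j) (c⁻¹ * t) := by rw [← e]; group
  have h1 := S.act_mul hact (S.act_nL (F := K) L)
  rw [e2] at h1
  have h2 := S.act_unique h1 (S.act_mul (S.act_nL L) hj)
  show Act S.ok _ (u * S.wp j * u⁻¹)
  rw [hL, show S.wpL L * S.wp j * (S.wpL L)⁻¹ = S.wpL L' from by rw [← h2]; group]
  exact hact

theorem exists_mono_word (S : Struct D C) {m : GL D.Idx K} (hm : m ∈ D.monomialSubgroup K)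
    {w : Equiv.Perm (Fin D.nroots)} (ha : Act S.ok m w) :
    ∃ (L : List (Fin D.rank)) (c : Fin D.rank → Kˣ), S.wpL L = w ∧ m = Ok.tG D K c * S.nL K L := by
  obtain ⟨L, hL, -⟩ := S.exists_act hm
  obtain ⟨L', hact', hiff⟩ := S.exists_act (mul_mem hm (inv_mem (S.nL_mem_mono (F := K) L)))
  have h1 := S.act_mul hact' (S.act_nL (F := K) L)
  rw [inv_mul_cancel_right] at h1
  have hd : m * (S.nL K L)⁻¹ ∈ D.diagonalSubgroup K := hiff.1 (mul_eq_right.1 (S.act_unique h1 hL))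
  rw [S.ok.diagonalSubgroup_eq] at hd
  obtain ⟨c, hc⟩ := hd
  exact ⟨L, c, S.act_unique hL ha, by rw [hc, inv_mul_cancel_right]⟩

theorem act_coef (S : Struct D C) {n : GL D.Idx K} {π : Equiv.Perm (Fin D.nroots)} (ha : Act S.ok n π)
    (r r' : Fin D.nroots) (hr' : r'.val = D.neg r.val) (hπ : (π r').val = D.neg (π r).val) :
    ∃ c : K, c ≠ 0 ∧ (∀ t, n * S.ok.xG r.val t * n⁻¹ = S.ok.xG (π r).val (c * t)) ∧
      ∀ t, n * S.ok.xG r'.val t * n⁻¹ = S.ok.xG (π r').val (c⁻¹ * t) := by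
  obtain ⟨-, c, hc, e⟩ := ha r
  obtain ⟨-, c', -, e'⟩ := ha r'
  refine ⟨c, hc, fun t => (e t).1, fun t => ?_⟩
  suffices h : c' = c⁻¹ by rw [(e' t).1, h]
  have h1 : n * (S.ok.xG r.val (1 : K) * S.ok.xG (D.neg r.val) (-(1 : K)⁻¹) * S.ok.xG r.val 1) * n⁻¹ =
      S.ok.xG (π r).val (c * 1) * S.ok.xG (D.neg (π r).val) (-(c * 1)⁻¹) * S.ok.xG (π r).val (c * 1) := (e 1).2
  rw [← hr', show ∀ a b : GL D.Idx K, n * (a * b * a) * n⁻¹ = (n * a * n⁻¹) * (n * b * n⁻¹) * (n * a * n⁻¹) from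
    fun a b => by group, (e 1).1, (e' _).1, ← hπ] at h1
  have h2 := S.xG_left_inj (π r').isLt (mul_left_cancel (mul_right_cancel h1))
  simpa using h2

theorem commute_xG (S : Struct D C) {a b : ℕ} (ha : a < D.nroots) (hb : b < D.nroots) (h1 : b ≠ a)
    (h2 : b ≠ D.neg a) (h : D.commTerms a b = []) (t u : K) : Commute (S.ok.xG a t) (S.ok.xG b u) := by
  have h3 := S.ok.commRel (F := K) S.chain S.base ha hb h1 h2 t u
  simp only [ChevalleyDatum.commWord, h, List.map_nil, Ok.wG, List.prod_nil, mul_one] at h3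
  exact h3.symm

theorem exists_flip_params [Fintype K] (τ : K →+* K) {Q : ℕ} (hQ : 1 < Q) (hτ : ∀ z, τ z = z ^ Q)
    (hK : Fintype.card K = Q ^ 4) {c : K} (hc : c * τ c * τ (τ c) * τ (τ (τ c)) = 1) :
    ∃ t s : K, t ≠ 0 ∧ c * τ t = -t ∧ τ s + s = -1 := by
  obtain ⟨ζ, hgen⟩ := IsCyclic.exists_generator (α := Kˣ)
  have hc0 : c ≠ 0 := fun h => by simp [h] at hc
  set N := Fintype.card K - 1 with hN
  have hζ : orderOf ζ = N := by
    rw [orderOf_eq_card_of_forall_mem_zpowers hgen, Nat.card_units, Nat.card_eq_fintype_card]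
  have hQ4 : 1 ≤ Q ^ 4 := Nat.one_le_pow _ _ (by omega)
  have hN' : (N : ℤ) = ((Q : ℤ) - 1) * (1 + Q + Q ^ 2 + Q ^ 3) := by
    rw [hN, hK, Nat.cast_sub hQ4]; push_cast; ring
  obtain ⟨m, hm⟩ := Subgroup.mem_zpowers_iff.1 (hgen (-(Units.mk0 c hc0)⁻¹))
  have hpow : (-(Units.mk0 c hc0)⁻¹ : Kˣ) ^ (1 + Q + Q ^ 2 + Q ^ 3) = 1 := by
    have he : (-1 : Kˣ) ^ (1 + Q + Q ^ 2 + Q ^ 3) = 1 := by
      rcases Nat.even_or_odd Q with hq | hq
      · have h2 : ringChar K = 2 := FiniteField.even_card_iff_char_two.2 (by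
          rw [hK]; exact Nat.even_iff.1 (hq.pow_of_ne_zero (by norm_num)))
        haveI : CharP K 2 := ringChar.of_eq h2
        rw [show (-1 : Kˣ) = 1 from Units.ext (by rw [Units.val_neg, Units.val_one, CharTwo.neg_eq]), one_pow]
      · rw [show 1 + Q + Q ^ 2 + Q ^ 3 = (Q + 1) * (Q ^ 2 + 1) by ring]
        exact (hq.add_one.mul_right _).neg_one_pow
    rw [neg_pow, he, one_mul, inv_pow, inv_eq_one]
    refine Units.ext ?_
    rw [Units.val_pow_eq_pow_val, Units.val_mk0, Units.val_one, ← hc, hτ, hτ, hτ]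
    ring
  rw [← hm, ← zpow_natCast, ← _root_.zpow_mul, ← orderOf_dvd_iff_zpow_eq_one, hζ, hN'] at hpow
  push_cast at hpow
  obtain ⟨k, hk⟩ := (mul_dvd_mul_iff_right (by positivity : (1 : ℤ) + Q + Q ^ 2 + Q ^ 3 ≠ 0)).1 hpow
  let t : Kˣ := ζ ^ k
  have ht : Units.mk0 c hc0 * t ^ Q = -t := by
    have h1 : t ^ Q = t * ζ ^ m := by
      rw [hk, ← zpow_natCast, ← _root_.zpow_mul, ← _root_.zpow_add]; ring_nf
    rw [h1, hm, mul_neg, mul_comm t, mul_neg, ← mul_assoc, mul_inv_cancel, one_mul]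
  -- a solution of the trace equation
  have hd2 : Q ^ 2 - 1 ∣ N := by
    rw [hN, hK, show Q ^ 4 = (Q ^ 2) ^ 2 by ring]
    exact Nat.sub_one_dvd_pow_sub_one _ 2
  obtain ⟨l, hl⟩ := hd2
  have hN0 : 0 < N := by rw [← hζ]; exact orderOf_pos ζ
  have hl0 : l ≠ 0 := by rintro rfl; omega
  let w : Kˣ := ζ ^ l
  have hwo : orderOf w = Q ^ 2 - 1 := by
    rw [orderOf_pow_of_dvd hl0 (by rw [hζ, hl]; exact dvd_mul_left _ _), hζ, hl,
      Nat.mul_div_cancel _ (Nat.pos_of_ne_zero hl0)]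
  have hww : τ (τ (w : K)) = w := by
    rw [hτ, hτ, ← pow_mul, show Q * Q = Q ^ 2 - 1 + 1 by
      have := Nat.one_le_pow 2 Q (by omega); rw [← pow_two]; omega, pow_succ, ← Units.val_pow_eq_pow_val, ← hwo,
      pow_orderOf_eq_one, Units.val_one, one_mul]
  have hsum : τ (w : K) + w ≠ 0 := by
    intro h
    have h1 : w ^ (Q - 1) = -1 := by
      refine Units.ext ?_
      rw [Units.val_pow_eq_pow_val, Units.val_neg, Units.val_one]
      refine mul_left_cancel₀ w.ne_zero ?_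
      rw [← pow_succ', Nat.sub_add_cancel (by omega), ← hτ, eq_neg_of_add_eq_zero_left h]
      ring
    have h2 : w ^ ((Q - 1) * 2) = 1 := by rw [pow_mul, h1]; exact neg_one_sq
    have h3 := Nat.le_of_dvd (by omega) (hwo ▸ orderOf_dvd_of_pow_eq_one h2)
    have h4 : Q * Q ≥ 2 * Q := Nat.mul_le_mul_right Q hQ
    rw [pow_two] at h3
    omega
  refine ⟨t, -(w : K) / (τ (w : K) + w), t.ne_zero, ?_, ?_⟩
  · rw [hτ]; simpa using congrArg Units.val ht
  · rw [map_div₀, map_neg, map_add, hww, add_comm (w : K) (τ (w : K)), ← add_div,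
      show -τ (w : K) + -(w : K) = -(τ (w : K) + w) by ring, neg_div, div_self hsum]

end Cfsg.Lib.CyclicTorus
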