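import Cfsg.Agent.Chev.CyclicTorus.E7.Data
import Cfsg.Agent.Chev.CyclicTorus.E7.Root

/-! A regular twelfth-order eigenvector of `E6` vanishes, inside `E7`, exactly on three orthogonal root pairs which the
Weyl group element permutes cyclically. -/

set_option autoImplicit false
set_option linter.unusedSectionVars false
set_option linter.style.haveILetI false
set_option maxHeartbeats 800000
set_option maxRecDepth 4000

open Cfsg.Lie

namespace Cfsg.Lib.CyclicTorus.E7T

open Cfsg.Lib.Chev Matrix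

/-- The coroot of a root as an exponent vector. -/
def cv (s : ℕ) : Fin chevE7.rank → ℤ := fun j => cvn s j.val

/-- The coweight orthogonal to `E6`. -/
def om : Fin chevE7.rank → ℤ := fun j => omn j.val

theorem chiZ_fun (s : ℕ) (f : ℕ → ℤ) : chiZ chevE7 s (fun j => f j.val) = chin s f := by
  show (∑ j : Fin 7, chevE7.cartan j.val s * f j.val) = _
  rw [chin, ← List.map_coe_finRange_eq_range, List.map_map, ← List.ofFn_eq_map, List.sum_ofFn]
  rfl

theorem chiZ_cv_self (s : Fin chevE7.nroots) : chiZ chevE7 s (cv s) = 2 := by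
  have h := List.all_eq_true.1 ok_self s.val (List.mem_range.2 s.isLt)
  rw [decide_eq_true_eq] at h
  exact (chiZ_fun _ _).trans h

theorem Rm_cv (i : Fin chevE7.rank) (s : Fin chevE7.nroots) :
    Rm chevE7 i *ᵥ cv s = cv (E7.struct.wp i s) := by
  funext j
  rw [Rm_mulVec, Struct.wp_val]
  have h := List.all_eq_true.1 ok_refl i.val (List.mem_range.2 i.isLt)
  have h2 := List.all_eq_true.1 h s.val (List.mem_range.2 s.isLt)
  have h3 := List.all_eq_true.1 h2 j.val (List.mem_range.2 j.isLt)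
  rw [decide_eq_true_eq] at h3
  show cvn s j - (Pi.single i (chiZ chevE7 (chevE7.simple i) (cv s)) : Fin chevE7.rank → ℤ) j = _
  rw [show chiZ chevE7 (chevE7.simple i) (cv s) = chin (chevE7.simple i) (cvn s) from chiZ_fun _ _]
  refine Eq.trans (congrArg (cvn s j - ·) ?_) h3
  by_cases hij : j = i
  · subst hij; simp
  · rw [Pi.single_eq_of_ne hij, if_neg (fun e => hij (Fin.ext e))]

theorem matL_cv : ∀ (L : List (Fin chevE7.rank)) (s : Fin chevE7.nroots),
    matL chevE7 L *ᵥ cv s = cv (E7.struct.wpL L s)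
  | [], s => by simp [matL, Struct.wpL]
  | i :: L, s => by
    have e1 : E7.struct.wpL (i :: L) = E7.struct.wp i * E7.struct.wpL L := by simp [Struct.wpL]
    have e2 : matL chevE7 (i :: L) = Rm chevE7 i * matL chevE7 L := by simp [matL]
    rw [e1, e2, Equiv.Perm.mul_apply, ← Matrix.mulVec_mulVec, matL_cv L s, Rm_cv]

theorem cv_simple (i : Fin chevE7.rank) : cv (E7.struct.sp i) = Pi.single i 1 := by
  funext j
  have h := List.all_eq_true.1 (List.all_eq_true.1 ok_simple i.val (List.mem_range.2 i.isLt)) j.val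
    (List.mem_range.2 j.isLt)
  rw [decide_eq_true_eq] at h
  rw [show ((E7.struct.sp i : Fin chevE7.nroots) : ℕ) = chevE7.simple i from E7.struct.ok.sr_eq i.isLt]
  show cvn _ _ = _
  rw [h, Pi.single_apply]
  simp only [Fin.ext_iff]

/-- The fundamental roots of `E6` among those of `E7`. -/
def up (i : Fin chevE6.rank) : Fin chevE7.rank := ⟨i.val, Nat.lt_succ_of_lt i.isLt⟩

theorem Rm_om (i : Fin chevE6.rank) : Rm chevE7 (up i) *ᵥ om = om := by
  have h : ∀ i : Fin 6, chin (chevE7.simple i.val) omn = 0 := by decide +kernel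
  rw [Rm_mulVec, show chiZ chevE7 (chevE7.simple (up i)) om = chin (chevE7.simple i.val) omn from chiZ_fun _ _,
    h ⟨i.val, i.isLt⟩, Pi.single_zero, sub_zero]

theorem matL_om : ∀ L : List (Fin chevE6.rank), matL chevE7 (L.map up) *ᵥ om = om
  | [] => by simp [matL]
  | i :: L => by
    rw [List.map_cons, show matL chevE7 (up i :: L.map up) = Rm chevE7 (up i) * matL chevE7 (L.map up) by simp [matL],
      ← Matrix.mulVec_mulVec, matL_om L, Rm_om]

theorem chiZ_io (r : Fin chevE6.nroots) (y : Fin chevE6.rank → ℤ) :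
    chiZ chevE7 (io6.getD r.val 0) (extZ chevE6.rank chevE7.rank y) = chiZ chevE6 r y := by
  have h := List.all_eq_true.1 ok_cart r.val (List.mem_range.2 r.isLt)
  simp only [Bool.and_eq_true, decide_eq_true_eq, List.all_eq_true, List.mem_range] at h
  unfold chiZ
  refine (Finset.sum_of_injOn up (fun a _ b _ e => Fin.ext (congrArg Fin.val e :))
    (fun _ _ => Finset.mem_univ _) (fun j _ hj => ?_) fun j _ => ?_).symm
  · have : ¬ j.val < chevE6.rank := fun hlt => hj ⟨⟨j.val, hlt⟩, Finset.mem_coe.2 (Finset.mem_univ _), Fin.ext rfl⟩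
    simp [extZ, this]
  · have e := h.2 j.val j.isLt
    show chevE6.cartan j r * y j = chevE7.cartan j (io6.getD r 0) * extZ chevE6.rank chevE7.rank y (up j)
    rw [e]
    unfold extZ
    rw [dif_pos (show (up j).val < chevE6.rank from j.isLt)]
    rfl

theorem top_spec {s : ℕ} (hs : s ∈ top) : s < chevE7.nroots ∧ chiZ chevE7 s om = 2 ∧ cvn s 6 = 1 ∧
    ∃ j < 7, 3 * cvn s j ≠ omn j := by
  have h := List.all_eq_true.1 ok_top s hs
  simp only [Bool.and_eq_true, decide_eq_true_eq, List.any_eq_true, List.mem_range] at h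
  exact ⟨h.1.1.1, (chiZ_fun _ _).trans h.1.1.2, h.1.2, h.2⟩

theorem root_cases (s : Fin chevE7.nroots) :
    (chiZ chevE7 s om = 0 ∧ ∃ r : Fin chevE6.nroots, io6.getD r.val 0 = s.val) ∨
      (chiZ chevE7 s om = 2 ∧ s.val ∈ top) ∨ (chiZ chevE7 s om = -2 ∧ chevE7.neg s ∈ top) := by
  have h := List.all_eq_true.1 ok_om s.val (List.mem_range.2 s.isLt)
  have e : chiZ chevE7 s om = chin s omn := chiZ_fun _ _
  simp only [Bool.or_eq_true, Bool.and_eq_true, decide_eq_true_eq, List.contains_iff_mem] at h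
  rcases h with (⟨h1, h2⟩ | ⟨h1, h2⟩) | ⟨h1, h2⟩
  · obtain ⟨i, hi, e2⟩ := List.mem_iff_getElem.1 h2
    exact Or.inl ⟨e.trans h1, ⟨i, hi⟩, by rw [List.getD_eq_getElem _ _ hi, e2]⟩
  · exact Or.inr (Or.inl ⟨e.trans h1, h2⟩)
  · exact Or.inr (Or.inr ⟨e.trans h1, h2⟩)

/-- Orthogonal roots in the top layer with commuting root subgroups. -/
structure Orth (s t : ℕ) : Prop where
  st : chiZ chevE7 s (cv t) = 0
  ts : chiZ chevE7 t (cv s) = 0
  comm : ∀ a ∈ [s, chevE7.neg s], ∀ b ∈ [t, chevE7.neg t], chevE7.commTerms a b = []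

theorem orth_of_zero {r : ℕ} {y : Fin chevE6.rank → ℤ} (hreg : ∀ s : Fin chevE6.nroots, (chiZ chevE6 s y : ZMod r) ≠ 0)
    {s t : ℕ} (hs : s ∈ top) (ht : t ∈ top) (hne : s ≠ t)
    (hs0 : (chiZ chevE7 s (extZ chevE6.rank chevE7.rank y) : ZMod r) = 0)
    (ht0 : (chiZ chevE7 t (extZ chevE6.rank chevE7.rank y) : ZMod r) = 0) : Orth s t := by
  have h := List.all_eq_true.1 (List.all_eq_true.1 ok_pairs s hs) t ht
  simp only [Bool.or_eq_true, Bool.and_eq_true, decide_eq_true_eq, List.any_eq_true, List.all_eq_true,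
    List.mem_range, orth] at h
  rcases h with (h | ⟨⟨h1, h2⟩, h3⟩) | ⟨k, hk, h⟩
  · exact absurd h hne
  · exact ⟨(chiZ_fun _ _).trans h1, (chiZ_fun _ _).trans h2, h3⟩
  · refine absurd ?_ (hreg ⟨k, hk⟩)
    rw [← chiZ_io ⟨k, hk⟩]
    have e : chiZ chevE7 (io6.getD k 0) (extZ chevE6.rank chevE7.rank y) =
        chiZ chevE7 s (extZ chevE6.rank chevE7.rank y) - chiZ chevE7 t (extZ chevE6.rank chevE7.rank y) := by
      simp only [chiZ, ← Finset.sum_sub_distrib, ← sub_mul]
      exact Finset.sum_congr rfl fun j _ => by rw [h j.val j.isLt]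
    rw [e, Int.cast_sub, hs0, ht0, sub_zero]

theorem not_fixed {a : Fin chevE6.rank → Fin chevE6.rank → ℤ} (hU : Uni chevE6 a) (L : List (Fin chevE6.rank))
    (X : Emb chevE6 E6.cert chevE7 E7.cert)
    (h1 : ∀ v : Fin chevE6.rank → ℤ, matL chevE6 L *ᵥ v = v → v = 0) {s : Fin chevE7.nroots} (hs : s.val ∈ top) :
    E7.struct.wpL (L.map up) s ≠ s := by
  intro hfix
  obtain ⟨-, -, h6, j, hj, hne⟩ := top_spec hs
  let v : Fin chevE7.rank → ℤ := 3 • cv s - om
  have hv : matL chevE7 (L.map up) *ᵥ v = v := by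
    rw [Matrix.mulVec_sub, Matrix.mulVec_smul, matL_cv, hfix, matL_om]
  let v6 : Fin chevE6.rank → ℤ := fun i => v (up i)
  have hlast : ∀ i : Fin chevE7.rank, ¬ i.val < chevE6.rank → i.val = 6 := fun i h => by
    have h1 : i.val < 7 := i.isLt
    have h2 : ¬ i.val < 6 := h
    omega
  have hext : extZ chevE6.rank chevE7.rank v6 = v := by
    funext i
    unfold extZ
    split_ifs with h
    · rfl
    · show 0 = 3 • cvn s i.val - omn i.val
      rw [hlast i h, h6]; rfl
  have key : ∀ (M : List (Fin chevE6.rank)) (z : Fin chevE6.rank → ℤ),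
      matL chevE7 (M.map up) *ᵥ extZ chevE6.rank chevE7.rank z = extZ chevE6.rank chevE7.rank (matL chevE6 M *ᵥ z) := by
    intro M
    induction M with
    | nil => intro z; simp [matL]
    | cons i M ih =>
      intro z
      rw [List.map_cons, show matL chevE7 (up i :: M.map up) = Rm chevE7 (up i) * matL chevE7 (M.map up) by simp [matL],
        show matL chevE6 (i :: M) = Rm chevE6 i * matL chevE6 M by simp [matL], ← Matrix.mulVec_mulVec, ih,
        ← Matrix.mulVec_mulVec]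
      exact X.extZ_Rm i _
  have h3 : matL chevE7 (L.map up) *ᵥ extZ chevE6.rank chevE7.rank v6 = extZ chevE6.rank chevE7.rank v6 := by
    rw [hext]; exact hv
  have h2 : v6 = 0 := h1 v6 (by
    funext i
    have := congrFun ((key L v6).symm.trans h3) (up i)
    simpa [extZ, up] using this)
  have hv0 : v = 0 := by rw [← hext, h2]; funext i; simp [extZ]
  refine hne ?_
  have := congrFun hv0 ⟨j, hj⟩
  simp only [v, Pi.sub_apply, Pi.zero_apply, sub_eq_zero] at this
  simpa [cv, om] using this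

theorem dvd_card_layer {r : ℕ} [Fact r.Prime] {q : ℤ} (hq : IsPrimitiveRoot (q : ZMod r) 12)
    {π : Equiv.Perm (Fin chevE7.nroots)} {y : Fin chevE7.rank → ℤ}
    (hy : ∀ s, (chiZ chevE7 (π s) y : ZMod r) = (q : ZMod r) * (chiZ chevE7 s y : ZMod r))
    (hom : ∀ s, chiZ chevE7 (π s) om = chiZ chevE7 s om) :
    12 ∣ Fintype.card {s : Fin chevE7.nroots // chiZ chevE7 s om = 2 ∧ (chiZ chevE7 s y : ZMod r) ≠ 0} := by
  have hq0 : (q : ZMod r) ≠ 0 := hq.ne_zero (by norm_num)
  let f : Equiv.Perm {s : Fin chevE7.nroots // chiZ chevE7 s om = 2 ∧ (chiZ chevE7 s y : ZMod r) ≠ 0} :=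
    π.subtypePerm fun s => by rw [hom, hy, mul_ne_zero_iff, and_iff_right hq0]
  refine dvd_card_of_period f 12 fun s k hk => ?_
  have hpow : ∀ (m : ℕ) (t : Fin chevE7.nroots),
      (chiZ chevE7 ((π ^ m) t) y : ZMod r) = (q : ZMod r) ^ m * (chiZ chevE7 t y : ZMod r) := by
    intro m
    induction m with
    | zero => intro t; simp
    | succ m ih => intro t; rw [pow_succ', Equiv.Perm.mul_apply, hy, ih, pow_succ', mul_assoc]
  have e : (π ^ k) s.1 = s.1 := by
    have := congrArg Subtype.val hk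
    rwa [Equiv.Perm.subtypePerm_pow] at this
  have h1 := hpow k s.1
  rw [e] at h1
  exact hq.dvd_of_pow_eq_one k ((mul_eq_right₀ s.2.2).1 h1.symm)

/-- The three roots of the top layer vanishing at the eigenvector. -/
structure Triple (r : ℕ) (π : Equiv.Perm (Fin chevE7.nroots)) (y : Fin chevE7.rank → ℤ)
    (b₀ b₁ b₂ : Fin chevE7.nroots) : Prop where
  cyc : π b₀ = b₁ ∧ π b₁ = b₂ ∧ π b₂ = b₀
  mem : b₀.val ∈ top ∧ b₁.val ∈ top ∧ b₂.val ∈ top
  orth : Orth b₀ b₁ ∧ Orth b₁ b₂ ∧ Orth b₀ b₂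
  ne : b₀ ≠ b₁ ∧ b₁ ≠ b₂ ∧ b₀ ≠ b₂
  zero : ∀ s : Fin chevE7.nroots, (chiZ chevE7 s y : ZMod r) = 0 ↔
    ∃ b ∈ [b₀, b₁, b₂], s = b ∨ s.val = chevE7.neg b

theorem exists_triple {r : ℕ} [Fact r.Prime] {q : ℤ} (hq : IsPrimitiveRoot (q : ZMod r) 12)
    {a : Fin chevE6.rank → Fin chevE6.rank → ℤ} (hU : Uni chevE6 a) (X : Emb chevE6 E6.cert chevE7 E7.cert)
    (L : List (Fin chevE6.rank)) (h1 : ∀ v : Fin chevE6.rank → ℤ, matL chevE6 L *ᵥ v = v → v = 0)
    {y : Fin chevE6.rank → ℤ} (hreg : ∀ s : Fin chevE6.nroots, (chiZ chevE6 s y : ZMod r) ≠ 0)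
    (hy : ∀ s, (chiZ chevE7 (E7.struct.wpL (L.map up) s) (extZ chevE6.rank chevE7.rank y) : ZMod r) =
      (q : ZMod r) * (chiZ chevE7 s (extZ chevE6.rank chevE7.rank y) : ZMod r)) :
    ∃ b₀ b₁ b₂, Triple r (E7.struct.wpL (L.map up)) (extZ chevE6.rank chevE7.rank y) b₀ b₁ b₂ := by
  classical
  set π := E7.struct.wpL (L.map up) with hπ
  set y' := extZ chevE6.rank chevE7.rank y with hy'
  have hom : ∀ s, chiZ chevE7 (π s) om = chiZ chevE7 s om := fun s => by
    conv_lhs => rw [← matL_om L]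
    exact chiZ_wpL _ _ s om
  let P := Finset.univ.filter fun s : Fin chevE7.nroots => chiZ chevE7 s om = 2
  let Ψ : Finset (Fin chevE7.nroots) := P.filter fun s : Fin chevE7.nroots => (chiZ chevE7 s y' : ZMod r) = 0
  have hP : P.card = 27 := by
    show (Finset.univ.filter fun s : Fin chevE7.nroots => chiZ chevE7 s om = 2).card = 27
    simp only [show ∀ s : ℕ, chiZ chevE7 s om = chin s omn from fun s => chiZ_fun s omn]
    decide +kernel
  have hmemP : ∀ s : Fin chevE7.nroots, s ∈ Ψ → s.val ∈ top := fun s hs => by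
    simp only [Ψ, P, Finset.mem_filter, Finset.mem_univ, true_and] at hs
    rcases root_cases s with ⟨h, -⟩ | ⟨-, h⟩ | ⟨h, -⟩
    · omega
    · exact h
    · omega
  have hcard : 12 ∣ 27 - Ψ.card := by
    have h := dvd_card_layer hq hy hom
    rw [Fintype.card_subtype] at h
    have e : (Finset.univ.filter fun s : Fin chevE7.nroots => chiZ chevE7 s om = 2 ∧ (chiZ chevE7 s y' : ZMod r) ≠ 0) =
        P \ Ψ := by
      ext s; simp [P, Ψ]; tauto
    rw [e, Finset.card_sdiff_of_subset (Finset.filter_subset _ _), hP] at h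
    exact h
  have horth : ∀ s ∈ Ψ, ∀ t ∈ Ψ, s ≠ t → Orth s t := fun s hs t ht hne =>
    orth_of_zero hreg (hmemP s hs) (hmemP t ht) (fun e => hne (Fin.ext e))
      (Finset.mem_filter.1 hs).2 (Finset.mem_filter.1 ht).2
  have hle : Ψ.card ≤ 3 := by
    by_contra h
    obtain ⟨T, hT, hTc⟩ := Finset.exists_subset_card_eq (n := 4) (s := Ψ) (by omega)
    obtain ⟨x, z, u, v, h₁, h₂, h₃, h₄, h₅, h₆, rfl⟩ := Finset.card_eq_four.1 hTc
    simp only [Finset.insert_subset_iff, Finset.singleton_subset_iff] at hT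
    obtain ⟨hx, hz, hu, hv⟩ := hT
    have h := List.all_eq_true.1 (List.all_eq_true.1 ok_tri x.val (hmemP x hx)) z.val (hmemP z hz)
    simp only [Bool.or_eq_true, decide_eq_true_eq, Bool.not_eq_true', orth] at h
    have e : chin x.val (cvn z) = 0 := (chiZ_fun _ _).symm.trans (horth x hx z hz h₁).st
    rcases h with (h | h) | h
    · exact h₁ (Fin.ext h)
    · simp [e] at h
    · have hsub : [u.val, v.val] ⊆ top.filter fun k => decide (chin x.val (cvn k) = 0) && decide (chin z.val (cvn k) = 0) := by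
        intro k hk
        simp only [List.mem_cons, List.not_mem_nil, or_false] at hk
        rw [List.mem_filter, Bool.and_eq_true, decide_eq_true_eq, decide_eq_true_eq]
        rcases hk with rfl | rfl
        · exact ⟨hmemP u hu, (chiZ_fun _ _).symm.trans (horth x hx u hu h₂).st,
            (chiZ_fun _ _).symm.trans (horth z hz u hu h₄).st⟩
        · exact ⟨hmemP v hv, (chiZ_fun _ _).symm.trans (horth x hx v hv h₃).st,
            (chiZ_fun _ _).symm.trans (horth z hz v hv h₅).st⟩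
      have h7 := List.Subperm.length_le (List.subperm_of_subset (by simpa using fun e => h₆ (Fin.ext e)) hsub)
      simp only [List.length_cons, List.length_nil] at h7
      replace h := of_decide_eq_true h
      omega
  have h3 : Ψ.card = 3 := by omega
  have hstab : ∀ s ∈ Ψ, π s ∈ Ψ ∧ π s ≠ s := fun s hs => by
    refine ⟨?_, not_fixed hU L X h1 (hmemP s hs)⟩
    simp only [Ψ, P, Finset.mem_filter, Finset.mem_univ, true_and] at hs ⊢
    rw [hom, hy, hs.2, mul_zero]
    exact ⟨hs.1, rfl⟩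
  obtain ⟨b₀, hb₀⟩ := Finset.card_pos.1 (show 0 < Ψ.card by omega)
  set b₁ := π b₀ with hb₁d
  set b₂ := π b₁ with hb₂d
  obtain ⟨hb₁, n01⟩ := hstab b₀ hb₀
  obtain ⟨hb₂, n12⟩ := hstab b₁ hb₁
  obtain ⟨hb₃, n23⟩ := hstab b₂ hb₂
  replace hb₁ : b₁ ∈ Ψ := hb₁
  replace hb₂ : b₂ ∈ Ψ := hb₂
  have n02 : b₀ ≠ b₂ := by
    intro h
    obtain ⟨x, hx, hx0, hx1⟩ : ∃ x ∈ Ψ, x ≠ b₀ ∧ x ≠ b₁ := by
      by_contra hno
      push Not at hno
      have hsub : Ψ ⊆ {b₀, b₁} := fun x hx => by
        simp only [Finset.mem_insert, Finset.mem_singleton]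
        by_cases e : x = b₀
        · exact Or.inl e
        · exact Or.inr (hno x hx e)
      have := (Finset.card_le_card hsub).trans Finset.card_le_two
      omega
    obtain ⟨hπx, nx⟩ := hstab x hx
    have e0 : π x ≠ b₁ := fun e => hx0 (π.injective e)
    have e1 : π x ≠ b₀ := fun e => hx1 (π.injective (e.trans h))
    have hsub : ({b₀, b₁, x, π x} : Finset _) ⊆ Ψ := by
      simp [Finset.insert_subset_iff, hb₀, hb₁, hx, hπx]
    have := Finset.card_le_card hsub
    rw [Finset.card_eq_four.2 ⟨_, _, _, _, n01.symm, hx0.symm, e1.symm, hx1.symm, e0.symm, nx.symm, rfl⟩] at this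
    omega
  have hΨ : Ψ = {b₀, b₁, b₂} := by
    refine (Finset.eq_of_subset_of_card_le (by simp [Finset.insert_subset_iff, hb₀, hb₁, hb₂]) ?_).symm
    rw [h3, Finset.card_eq_three.2 ⟨_, _, _, n01.symm, n02, n12.symm, rfl⟩]
  have hcyc : π b₂ = b₀ := by
    rw [hΨ] at hb₃
    simp only [Finset.mem_insert, Finset.mem_singleton] at hb₃
    rcases hb₃ with h | h | h
    · exact h
    · exact absurd (π.injective h) n02.symm
    · exact absurd h n23
  refine ⟨b₀, b₁, b₂, ⟨rfl, rfl, hcyc⟩, ⟨hmemP _ hb₀, hmemP _ hb₁, hmemP _ hb₂⟩,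
    ⟨horth _ hb₀ _ hb₁ n01.symm, horth _ hb₁ _ hb₂ n12.symm, horth _ hb₀ _ hb₂ n02⟩,
    ⟨n01.symm, n12.symm, n02⟩, fun s => ⟨fun hs => ?_, ?_⟩⟩
  · have hin : ∀ t : Fin chevE7.nroots, chiZ chevE7 t om = 2 → (chiZ chevE7 t y' : ZMod r) = 0 →
        t ∈ ({b₀, b₁, b₂} : Finset _) := fun t h h' => by
      rw [← hΨ]; simp [Ψ, P, h, h']
    rcases root_cases s with ⟨-, k, hk⟩ | ⟨h, -⟩ | ⟨h, hn⟩
    · refine absurd ?_ (hreg k)
      rw [← chiZ_io k, hk]
      exact hs
    · exact ⟨s, by simpa using hin s h hs, Or.inl rfl⟩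
    · obtain ⟨hn1, hn2⟩ := E7.struct.neg_neg' s.isLt
      have := hin ⟨chevE7.neg s, hn1⟩ (by
        show chiZ chevE7 (chevE7.neg s) om = 2
        rw [chiZ_neg E7.struct s.isLt, h, neg_neg]) (by
        show (chiZ chevE7 (chevE7.neg s) y' : ZMod r) = 0
        rw [chiZ_neg E7.struct s.isLt, Int.cast_neg, hs, neg_zero])
      exact ⟨_, by simpa using this, Or.inr hn2.symm⟩
  · rintro ⟨b, hb, h⟩
    have hb' : b ∈ Ψ := by rw [hΨ]; simpa using hb
    have h0 := (Finset.mem_filter.1 hb').2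
    rcases h with rfl | h
    · exact h0
    · rw [h, chiZ_neg E7.struct b.isLt, Int.cast_neg, h0, neg_zero]

end Cfsg.Lib.CyclicTorus.E7T
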