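import Cfsg.Agent.Chev.CyclicTorus.E7.General
import Cfsg.Agent.Chev.St.CenterData
import Cfsg.Agent.Chev.Types

/-! Combinatorial facts on the `E6` Levi subsystem of `E7` and the twenty-seven roots outside it. -/

set_option autoImplicit false
set_option maxHeartbeats 0
set_option Elab.async false

open Cfsg.Lie

namespace Cfsg.Lib.CyclicTorus.E7T

open Cfsg.Lib.Chev

/-- The roots of `E6` among those of `E7`. -/
def io6 : List ℕ := [6, 10, 13, 15, 16, 19, 21, 22, 24, 25, 26, 28, 29, 30, 31, 32, 35, 37, 38, 40, 41, 42, 44, 45, 46, 47, 49, 50, 51, 52, 54, 55, 56, 58, 59, 61, 64, 66, 67, 69, 70, 71, 73, 74, 75, 76, 78, 79, 80, 81, 83, 84, 85, 87, 88, 90, 93, 94, 95, 96, 97, 99, 100, 101, 103, 104, 106, 109, 110, 112, 115, 119]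

/-- The roots with coefficient one at the last fundamental root. -/
def top : List ℕ := [63, 65, 68, 72, 77, 82, 86, 89, 91, 92, 98, 102, 105, 107, 108, 111, 113, 114, 116, 117, 118, 120, 121, 122, 123, 124, 125]

/-- The coefficient of the coroot of `s`. -/
def cvn (s j : ℕ) : ℤ := (chevE7.coroot.getD s #[]).getD j 0

/-- Three times the fundamental coweight orthogonal to `E6`, scaled. -/
def omn (j : ℕ) : ℤ := ([2, 3, 4, 6, 5, 4, 3] : List ℤ).getD j 0

/-- The value of a root on an exponent list. -/
def chin (s : ℕ) (f : ℕ → ℤ) : ℤ := ((List.range 7).map fun j => chevE7.cartan j s * f j).sum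

/-- Orthogonality in the top layer. -/
def orth (s t : ℕ) : Bool := decide (chin s (cvn t) = 0)

theorem ok_refl : ((List.range 7).all fun i => (List.range 126).all fun s => (List.range 7).all fun j =>
    decide (cvn s j - (if j = i then chin (chevE7.simple i) (cvn s) else 0) = cvn (E7.cert.w i s) j)) = true := by
  decide +kernel

theorem ok_simple : ((List.range 7).all fun i => (List.range 7).all fun j =>
    decide (cvn (chevE7.simple i) j = if j = i then 1 else 0)) = true := by decide +kernel

theorem ok_self : ((List.range 126).all fun s => decide (chin s (cvn s) = 2)) = true := by decide +kernel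

theorem ok_om : ((List.range 126).all fun s =>
    (decide (chin s omn = 0) && io6.contains s) || (decide (chin s omn = 2) && top.contains s) ||
      (decide (chin s omn = -2) && top.contains (chevE7.neg s))) = true := by decide +kernel

theorem ok_top : (top.all fun s => decide (s < 126) && decide (chin s omn = 2) && decide (cvn s 6 = 1) &&
    (List.range 7).any fun j => decide (3 * cvn s j ≠ omn j)) = true := by decide +kernel

theorem ok_cart : ((List.range 72).all fun r => decide (io6.getD r 0 < 126) && (List.range 6).all fun j =>
    decide (chevE7.cartan j (io6.getD r 0) = chevE6.cartan j r)) = true := by decide +kernel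

theorem ok_pairs : (top.all fun s => top.all fun t => decide (s = t) ||
    (orth s t && orth t s && ([s, chevE7.neg s].all fun a => [t, chevE7.neg t].all fun b =>
      decide (chevE7.commTerms a b = []))) ||
    (List.range 72).any fun r => (List.range 7).all fun j =>
      decide (chevE7.cartan j s - chevE7.cartan j t = chevE7.cartan j (io6.getD r 0))) = true := by decide +kernel

theorem ok_tri : (top.all fun s => top.all fun t => decide (s = t) || !orth s t ||
    decide ((top.filter fun u => orth s u && orth t u).length ≤ 1)) = true := by decide +kernel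

end Cfsg.Lib.CyclicTorus.E7T
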