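import Cfsg.Agent.Chev.CyclicTorus.E7.Flip

/-! The corrected Weyl group element on exponent vectors: eigenvectors, regularity, determinants. -/

set_option autoImplicit false
set_option linter.unusedSectionVars false
set_option linter.style.haveILetI false
set_option maxHeartbeats 800000
set_option maxRecDepth 4000

open Cfsg.Lie

namespace Cfsg.Lib.CyclicTorus.E7T

open Cfsg.Lib.Chev Matrix Polynomial

theorem matW_cv {a : Fin chevE7.rank → Fin chevE7.rank → ℤ} (hU : Uni chevE7 a) (w : ↥E7.struct.WG)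
    (s : Fin chevE7.nroots) :
    matW E7.struct hU w *ᵥ cv s = cv ((w : Equiv.Perm (Fin chevE7.nroots)) s) := by
  obtain ⟨L, hL⟩ := E7.struct.exists_wpL w.2
  rw [matW_eq E7.struct hU w hL.symm, matL_cv, ← hL]

theorem matW_reflection {a : Fin chevE7.rank → Fin chevE7.rank → ℤ} (hU : Uni chevE7 a) (u : ↥E7.struct.WG)
    (j : Fin chevE7.rank) {b : Fin chevE7.nroots} (hb : (u : Equiv.Perm (Fin chevE7.nroots)) (E7.struct.sp j) = b)
    (t : Fin chevE7.rank → ℤ) :
    matW E7.struct hU (u * ⟨E7.struct.wp j, Subgroup.subset_closure ⟨j, rfl⟩⟩ * u⁻¹) *ᵥ t =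
      t - chiZ chevE7 b t • cv b := by
  have hR : matW E7.struct hU ⟨E7.struct.wp j, Subgroup.subset_closure ⟨j, rfl⟩⟩ = Rm chevE7 j := by
    rw [matW_eq E7.struct hU _ (L := [j]) (by simp [Struct.wpL])]; simp [matL]
  set t' := matW E7.struct hU u⁻¹ *ᵥ t with ht'
  have ht : matW E7.struct hU u *ᵥ t' = t := by
    rw [ht', Matrix.mulVec_mulVec, ← map_mul, mul_inv_cancel, map_one, Matrix.one_mulVec]
  rw [map_mul, map_mul, ← Matrix.mulVec_mulVec, ← Matrix.mulVec_mulVec, ← ht', hR, Rm_mulVec,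
    Matrix.mulVec_sub, ht]
  congr 1
  have h1 := chiZ_matW E7.struct hU u (E7.struct.sp j) t'
  rw [ht, hb] at h1
  rw [h1, ← hb, ← matW_cv hU, cv_simple, ← Matrix.mulVec_smul, ← Pi.single_smul', smul_eq_mul, mul_one]
  congr 2
  exact congrArg (fun s => chiZ chevE7 s t') (E7.struct.ok.sr_eq j.isLt).symm

theorem chiZ_lin (D : ChevalleyDatum) (s : ℕ) (x y : ℤ) (u v : Fin D.rank → ℤ) :
    chiZ D s (x • u + y • v) = x * chiZ D s u + y * chiZ D s v := by
  rw [chiZ_add]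
  congr 1 <;> simp [chiZ, Finset.mul_sum, mul_left_comm]

/-- The combination of three coroots which the corrected element multiplies by `q` modulo `q ^ 3 + 1`. -/
def comb (q : ℤ) (b₀ b₁ b₂ : Fin chevE7.nroots) : Fin chevE7.rank → ℤ := cv b₀ + q • cv b₁ + q ^ 2 • cv b₂

/-- The values of the six vanishing roots on the combination. -/
def val6 (q : ℤ) (k : Fin 3 × Bool) : ℤ := (if k.2 then 2 else -2) * q ^ (k.1 : ℕ)

theorem val6_inj {q : ℕ} (hq : 1 < q) {k k' : Fin 3 × Bool}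
    (h : ((q : ℤ) ^ 3 + 1) ∣ val6 q k - val6 q k') : k = k' := by
  have small : ∀ q : Fin 4, 1 < (q : ℕ) → ∀ k k' : Fin 3 × Bool,
      ((q : ℕ) : ℤ) ^ 3 + 1 ∣ val6 (q : ℕ) k - val6 (q : ℕ) k' → k = k' := by
    unfold val6; decide +kernel
  by_cases h4 : q < 4
  · exact small ⟨q, h4⟩ hq k k' h
  have hq4 : (4 : ℤ) ≤ q := by omega
  have hb : ∀ k : Fin 3 × Bool, |val6 q k| ≤ 2 * (q : ℤ) ^ 2 := fun k => by
    have h1 : (q : ℤ) ^ (k.1 : ℕ) ≤ (q : ℤ) ^ 2 := pow_le_pow_right₀ (by omega) (by omega)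
    have h2 : (0 : ℤ) ≤ (q : ℤ) ^ (k.1 : ℕ) := by positivity
    rw [val6, abs_le]
    split_ifs <;> constructor <;> linarith
  have h0 : val6 q k - val6 q k' = 0 := Int.eq_zero_of_abs_lt_dvd h (by
    have h1 := abs_sub (val6 (q : ℤ) k) (val6 (q : ℤ) k')
    have h2 := hb k
    have h3 := hb k'
    nlinarith)
  rw [sub_eq_zero] at h0
  obtain ⟨i, e⟩ := k
  obtain ⟨i', e'⟩ := k'
  have hp : ∀ n : ℕ, (0 : ℤ) < (q : ℤ) ^ n := fun n => pow_pos (by omega) n
  have hi := hp i.val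
  have hi' := hp i'.val
  simp only [val6] at h0
  have he : e = e' := by
    cases e <;> cases e' <;> simp at h0 ⊢ <;> linarith
  subst he
  refine Prod.ext (Fin.ext ?_) rfl
  have h1 : (q : ℤ) ^ i.val = (q : ℤ) ^ i'.val := by
    cases e <;> simp at h0 <;> linarith
  exact Nat.pow_right_injective (show 2 ≤ q by omega) (show q ^ i.val = q ^ i'.val by exact_mod_cast h1)

theorem not_dvd_cube_succ {r : ℕ} [Fact r.Prime] {q : ℕ} (hq : IsPrimitiveRoot ((q : ℤ) : ZMod r) 12) :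
    ¬ r ∣ q ^ 3 + 1 := by
  intro h
  rw [← ZMod.natCast_eq_zero_iff] at h
  push_cast at h
  refine absurd (hq.dvd_of_pow_eq_one 6 ?_) (by norm_num)
  push_cast
  rw [show 6 = 3 * 2 from rfl, pow_mul, eq_neg_of_add_eq_zero_left h]
  exact neg_one_sq

end Cfsg.Lib.CyclicTorus.E7T
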