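import Cfsg.Agent.Chev.CyclicTorus.E7.Comb

/-! The corrected twist in `E7`: the product of a Frobenius twist with a reflection in one of the three vanishing roots. -/

set_option autoImplicit false
set_option linter.unusedSectionVars false
set_option linter.style.haveILetI false
set_option maxHeartbeats 1600000
set_option maxRecDepth 4000

open Cfsg.Lie

namespace Cfsg.Lib.CyclicTorus.E7T

open Cfsg.Lib.Chev Matrix

variable {K : Type*} [Field K]

theorem th'_mem (X : Emb chevE6 E6.cert chevE7 E7.cert) (G : chevE6.SteinbergGroup K) :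
    X.th' G ∈ chevE7.group K := by
  have h : (⊤ : Subgroup (chevE6.SteinbergGroup K)) ≤ (chevE7.group K).comap X.th' := by
    rw [← PresentedGroup.closure_range_of, Subgroup.closure_le]
    rintro _ ⟨p, rfl⟩
    have e : PresentedGroup.of (rels := chevE6.steinbergRels K) p =
        St.pgen (chevE6.steinbergRels K) p.1.val p.2 := by
      rw [St.pgen, ChevalleyDatum.stX, dif_pos p.1.isLt]; rfl
    rw [SetLike.mem_coe, Subgroup.mem_comap, e, X.th'_gen p.1.isLt]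
    exact X.S'.ok.xG_mem_group _ _
  exact h (Subgroup.mem_top G)

theorem th'_nLb (X : Emb chevE6 E6.cert chevE7 E7.cert) (L : List (Fin chevE6.rank)) :
    X.th' ((X.pres (K := K)).nLb L) = X.S'.nL K (L.map up) := by
  rw [St.Pres.nLb, map_list_prod, List.map_map, Struct.nL, List.map_map]
  refine congrArg List.prod (List.map_congr_left fun i _ => ?_)
  exact X.th'_nn i 1

theorem top_ne {s t : Fin chevE7.nroots} (hs : s.val ∈ top) (ht : t.val ∈ top) (hne : s ≠ t) :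
    ∀ a ∈ [s.val, chevE7.neg s], ∀ b ∈ [t.val, chevE7.neg t], b ≠ a ∧ b ≠ chevE7.neg a := by
  intro a ha b hb
  have h1 := (top_spec hs).2.1
  have h2 := (top_spec ht).2.1
  have n1 : chiZ chevE7 (chevE7.neg s) om = -2 := by rw [chiZ_neg E7.struct s.isLt, h1]
  have n2 : chiZ chevE7 (chevE7.neg t) om = -2 := by rw [chiZ_neg E7.struct t.isLt, h2]
  have i1 := (E7.struct.neg_neg' s.isLt).2
  have i2 := (E7.struct.neg_neg' t.isLt).2
  have hv : t.val ≠ s.val := fun e => hne (Fin.ext e).symm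
  have hnn : chevE7.neg t ≠ chevE7.neg s := fun e => hv (by rw [← i2, e, i1])
  have hmix1 : t.val ≠ chevE7.neg s := fun e => by rw [← e, h2] at n1; omega
  have hmix2 : chevE7.neg t ≠ s.val := fun e => by rw [e, h1] at n2; omega
  simp only [List.mem_cons, List.not_mem_nil, or_false] at ha hb
  rcases ha with rfl | rfl <;> rcases hb with rfl | rfl <;> refine ⟨?_, ?_⟩
  all_goals first | assumption | (rw [i1]; assumption)

variable [Fintype K] {q : ℕ} (σ : K →+* K) (hσ : ∀ z, σ z = z ^ q)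

include hσ in
theorem exists_flip (hq : 1 < q) (hK : Fintype.card K = q ^ 12) {g : GL chevE7.Idx K} (hg : g ∈ chevE7.group K)
    (L : List (Fin chevE7.rank)) {c₁ : Fin chevE7.rank → Kˣ}
    (en : g⁻¹ * phiG σ chevE7 g = Ok.tG chevE7 K c₁ * E7.struct.nL K L) {b₀ b₁ b₂ : Fin chevE7.nroots}
    (hcyc : E7.struct.wpL L b₀ = b₁ ∧ E7.struct.wpL L b₁ = b₂ ∧ E7.struct.wpL L b₂ = b₀)
    (hmem : b₀.val ∈ top ∧ b₁.val ∈ top ∧ b₂.val ∈ top) (horth : Orth b₀ b₁ ∧ Orth b₁ b₂ ∧ Orth b₀ b₂)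
    (hne : b₀ ≠ b₁ ∧ b₁ ≠ b₂ ∧ b₀ ≠ b₂) :
    ∃ (g' : GL chevE7.Idx K) (_ : g' ∈ chevE7.group K) (L' : List (Fin chevE7.rank)) (c' : Fin chevE7.rank → Kˣ)
      (u : ↥E7.struct.WG) (j : Fin chevE7.rank), (u : Equiv.Perm (Fin chevE7.nroots)) (E7.struct.sp j) = b₀ ∧
      E7.struct.wpL L' = (u : Equiv.Perm (Fin chevE7.nroots)) * E7.struct.wp j *
        (u : Equiv.Perm (Fin chevE7.nroots))⁻¹ * E7.struct.wpL L ∧
      g'⁻¹ * phiG σ chevE7 g' = Ok.tG chevE7 K c' * E7.struct.nL K L' := by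
  classical
  let S := E7.struct
  set n := g⁻¹ * phiG σ chevE7 g with hn
  set π := E7.struct.wpL L with hπd
  have hact : Act S.ok n π := by
    have hd : Ok.tG chevE7 K c₁ ∈ chevE7.diagonalSubgroup K := by rw [S.ok.diagonalSubgroup_eq]; exact ⟨_, rfl⟩
    have := S.act_mul (S.act_diag hd) (S.act_nL (F := K) L)
    rw [one_mul] at this
    rwa [en]
  let φ : GL chevE7.Idx K →* GL chevE7.Idx K := (MulAut.conj n).toMonoidHom.comp (phiG σ chevE7)
  have hφx : ∀ (s : ℕ) (t : K), φ (S.ok.xG s t) = n * S.ok.xG s (t ^ q) * n⁻¹ := fun s t => by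
    show n * phiG σ chevE7 (S.ok.xG s t) * n⁻¹ = _
    rw [phiG_xG σ S, hσ]
  have hnegπ : ∀ b : Fin chevE7.nroots, (π ⟨chevE7.neg b, (S.neg_neg' b.isLt).1⟩).val = chevE7.neg (π b).val :=
    fun b => S.wp_neg L b _
  obtain ⟨k₀, hk₀, e₀, e₀'⟩ := act_coef S hact b₀ ⟨_, (S.neg_neg' b₀.isLt).1⟩ rfl (hnegπ b₀)
  obtain ⟨k₁, hk₁, e₁, e₁'⟩ := act_coef S hact b₁ ⟨_, (S.neg_neg' b₁.isLt).1⟩ rfl (hnegπ b₁)
  obtain ⟨k₂, hk₂, e₂, e₂'⟩ := act_coef S hact b₂ ⟨_, (S.neg_neg' b₂.isLt).1⟩ rfl (hnegπ b₂)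
  simp only [hnegπ, hcyc.1] at e₀'
  simp only [hnegπ, hcyc.2.1] at e₁'
  simp only [hnegπ, hcyc.2.2] at e₂'
  simp only [hcyc.1] at e₀
  simp only [hcyc.2.1] at e₁
  simp only [hcyc.2.2] at e₂
  set c := k₂ * (k₁ * k₀ ^ q) ^ q with hcdef
  let τ : K →+* K := σ.comp (σ.comp σ)
  have hτ : ∀ z, τ z = z ^ q ^ 3 := fun z => by
    show σ (σ (σ z)) = _
    rw [hσ, hσ, hσ, ← pow_mul, ← pow_mul]; ring_nf
  have hψ : ∀ t : K, φ (φ (φ (S.ok.xG b₀.val t))) = S.ok.xG b₀.val (c * τ t) := fun t => by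
    rw [hφx, e₀, hφx, e₁, hφx, e₂]
    congr 1
    rw [hcdef]
    show _ = _ * σ (σ (σ t))
    rw [hσ, hσ, hσ]
    simp only [mul_pow]
    ring
  have hψ' : ∀ t : K, φ (φ (φ (S.ok.xG (chevE7.neg b₀) t))) = S.ok.xG (chevE7.neg b₀) (c⁻¹ * τ t) := fun t => by
    rw [hφx, e₀', hφx, e₁', hφx, e₂']
    congr 1
    rw [hcdef]
    show _ = _ * σ (σ (σ t))
    rw [hσ, hσ, hσ]
    simp only [mul_pow, mul_inv, inv_pow]
    ring
  have hP : ∀ (k : ℕ) (u : GL chevE7.Idx K) (i j : chevE7.Idx),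
      ((phiG σ chevE7)^[k] u : GL chevE7.Idx K) i j = (u i j) ^ q ^ k := fun k => by
    induction k with
    | zero => intro u i j; simp
    | succ k ih =>
      intro u i j
      rw [Function.iterate_succ_apply']
      show σ (((phiG σ chevE7)^[k] u : GL chevE7.Idx K) i j) = _
      rw [ih, hσ, ← pow_mul, ← pow_succ]
  have hiter : ∀ (k : ℕ) (u : GL chevE7.Idx K),
      φ^[k] u = g⁻¹ * (phiG σ chevE7)^[k] (g * u * g⁻¹) * g := fun k => by
    induction k with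
    | zero => intro u; simp [mul_assoc]
    | succ k ih =>
      intro u
      rw [Function.iterate_succ_apply', ih, Function.iterate_succ_apply']
      show n * phiG σ chevE7 _ * n⁻¹ = _
      rw [hn, map_mul, map_mul, map_inv]
      group
  have h12 : ∀ u : GL chevE7.Idx K, φ^[12] u = u := fun u => by
    have e : (phiG σ chevE7)^[12] (g * u * g⁻¹) = g * u * g⁻¹ := Units.ext (Matrix.ext fun i j => by
      rw [hP, ← hK, FiniteField.pow_card])
    rw [hiter, e]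
    group
  have hc : c * τ c * τ (τ c) * τ (τ (τ c)) = 1 := by
    have h := h12 (S.ok.xG b₀.val 1)
    simp only [Function.iterate_succ_apply', Function.iterate_zero_apply] at h
    rw [hψ, hψ, hψ, hψ] at h
    have h2 := S.xG_left_inj b₀.isLt h
    simp only [map_mul, map_one, mul_one] at h2
    rw [← h2]; ring
  obtain ⟨t, s, ht, hct, hs⟩ := exists_flip_params τ (Q := q ^ 3) (one_lt_pow₀ hq (by norm_num)) hτ
    (by rw [hK, ← pow_mul]) hc
  set h₁ := S.ok.xG (chevE7.neg b₀) (s / t) * S.ok.xG b₀.val t with hh₁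
  clear_value h₁
  obtain ⟨v₁, v₁', ev₁⟩ : ∃ a b, φ h₁ = S.ok.xG (chevE7.neg b₁) a * S.ok.xG b₁.val b :=
    ⟨_, _, by rw [hh₁, map_mul, hφx, hφx, e₀', e₀]⟩
  obtain ⟨v₂, v₂', ev₂⟩ : ∃ a b, φ (φ h₁) = S.ok.xG (chevE7.neg b₂) a * S.ok.xG b₂.val b :=
    ⟨_, _, by rw [ev₁, map_mul, hφx, hφx, e₁', e₁]⟩
  have hcom : ∀ {a b : Fin chevE7.nroots}, Orth a b → a.val ∈ top → b.val ∈ top → a ≠ b → ∀ x y z w : K,
      Commute (S.ok.xG (chevE7.neg a) x * S.ok.xG a.val y) (S.ok.xG (chevE7.neg b) z * S.ok.xG b.val w) := by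
    intro a b ho ha hb hab x y z w
    have key : ∀ a' ∈ [a.val, chevE7.neg a], ∀ b' ∈ [b.val, chevE7.neg b], ∀ t u : K,
        Commute (S.ok.xG a' t) (S.ok.xG b' u) := by
      intro a' ha' b' hb' t u
      have hlt : a' < chevE7.nroots ∧ b' < chevE7.nroots := by
        simp only [List.mem_cons, List.not_mem_nil, or_false] at ha' hb'
        constructor
        · rcases ha' with rfl | rfl
          exacts [a.isLt, (S.neg_neg' a.isLt).1]
        · rcases hb' with rfl | rfl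
          exacts [b.isLt, (S.neg_neg' b.isLt).1]
      exact commute_xG S hlt.1 hlt.2 (top_ne ha hb hab a' ha' b' hb').1 (top_ne ha hb hab a' ha' b' hb').2
        (ho.comm a' ha' b' hb') t u
    refine Commute.mul_left (Commute.mul_right ?_ ?_) (Commute.mul_right ?_ ?_) <;>
      exact key _ (by simp) _ (by simp) _ _
  obtain ⟨h, hhd⟩ : ∃ h, h = h₁ * φ h₁ * φ (φ h₁) := ⟨_, rfl⟩
  have c01 : Commute h₁ (φ h₁) := by rw [ev₁, hh₁]; exact hcom horth.1 hmem.1 hmem.2.1 hne.1 _ _ _ _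
  have c02 : Commute h₁ (φ (φ h₁)) := by rw [ev₂, hh₁]; exact hcom horth.2.2 hmem.1 hmem.2.2 hne.2.2 _ _ _ _
  have hψh : φ (φ (φ h₁)) = S.ok.xG (chevE7.neg b₀) (c⁻¹ * τ (s / t)) * S.ok.xG b₀.val (c * τ t) := by
    rw [hh₁, map_mul, map_mul, map_mul, hψ, hψ']
  have hlang : h⁻¹ * φ h = S.ok.nG b₀.val (-t) := by
    have e : h⁻¹ * φ h = h₁⁻¹ * φ (φ (φ h₁)) := by
      rw [hhd, map_mul, map_mul]
      have hcx : h₁⁻¹ * (φ h₁ * φ (φ h₁)) = φ h₁ * φ (φ h₁) * h₁⁻¹ := ((c01.mul_right c02).inv_left).eq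
      calc (h₁ * φ h₁ * φ (φ h₁))⁻¹ * (φ h₁ * φ (φ h₁) * φ (φ (φ h₁)))
          = (φ (φ h₁))⁻¹ * (φ h₁)⁻¹ * (h₁⁻¹ * (φ h₁ * φ (φ h₁))) * φ (φ (φ h₁)) := by group
        _ = h₁⁻¹ * φ (φ (φ h₁)) := by rw [hcx]; group
    rw [e, hψh, hh₁, _root_.mul_inv_rev, show ∀ t, (S.ok.xG b₀.val t : GL chevE7.Idx K)⁻¹ = S.ok.xG b₀.val (-t) from
      fun t => (eq_inv_of_mul_eq_one_right (by rw [S.ok.xG_mul _, add_neg_cancel, S.xG_zero])).symm,
      show ∀ t, (S.ok.xG (chevE7.neg b₀) t : GL chevE7.Idx K)⁻¹ = S.ok.xG (chevE7.neg b₀) (-t) from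
      fun t => (eq_inv_of_mul_eq_one_right (by
        rw [S.ok.xG_mul _, add_neg_cancel, S.xG_zero])).symm, hct, mul_assoc (S.ok.xG _ _),
      ← mul_assoc (S.ok.xG (chevE7.neg b₀) _), S.ok.xG_mul _, ← mul_assoc]
    show _ = S.ok.xG b₀.val (-t) * S.ok.xG (chevE7.neg b₀) (-(-t)⁻¹) * S.ok.xG b₀.val (-t)
    congr 3
    have hc0 : c ≠ 0 := fun h0 => by simp [h0] at hc
    rw [map_div₀, inv_neg, neg_neg, show c⁻¹ * (τ s / τ t) = τ s / (c * τ t) by field_simp, hct,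
      show τ s = -1 - s by rw [← hs]; ring]
    field_simp
    ring
  obtain ⟨u, j, hju, hmon, hactr⟩ := exists_act_root S b₀ (neg_ne_zero.2 ht)
  have hgmem : g * h ∈ chevE7.group K := by
    have hh : h₁ ∈ chevE7.group K := by rw [hh₁]; exact mul_mem (S.ok.xG_mem_group _ _) (S.ok.xG_mem_group _ _)
    have h1 : φ h₁ ∈ chevE7.group K := by rw [ev₁]; exact mul_mem (S.ok.xG_mem_group _ _) (S.ok.xG_mem_group _ _)
    have h2 : φ (φ h₁) ∈ chevE7.group K := by rw [ev₂]; exact mul_mem (S.ok.xG_mem_group _ _) (S.ok.xG_mem_group _ _)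
    rw [hhd]; exact mul_mem hg (mul_mem (mul_mem hh h1) h2)
  have hnmon : n ∈ chevE7.monomialSubgroup K := by
    rw [en]
    refine mul_mem ?_ (S.nL_mem_mono L)
    rw [S.ok.monomialSubgroup_eq]
    refine Subgroup.mem_sup_left ?_
    rw [S.ok.diagonalSubgroup_eq]; exact ⟨_, rfl⟩
  obtain ⟨L', c', hL', ec'⟩ := exists_mono_word S (mul_mem hmon hnmon) (S.act_mul hactr hact)
  refine ⟨g * h, hgmem, L', c', u, j, hju, hL', ?_⟩
  rw [← ec', ← hlang, map_mul]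
  show _ = h⁻¹ * (n * phiG σ chevE7 h * n⁻¹) * n
  rw [hn]
  group

end Cfsg.Lib.CyclicTorus.E7T
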