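import Cfsg.Agent.Chev.CyclicTorus.E6.Main

/-! A torus twisted by a Weyl group element: its fixed points, and when they form a cyclic self-centralizing subgroup. -/

set_option autoImplicit false
set_option linter.unusedSectionVars false
set_option linter.style.haveILetI false
set_option maxHeartbeats 2000000

open Cfsg.Lie

namespace Cfsg.Lib.CyclicTorus

open Cfsg.Lib.Chev Matrix

variable {D E : ChevalleyDatum} {C C' : Cert}

theorem te_eq_imp {K : Type*} [Field K] (S : Struct D C) (ζ : Kˣ) {N : ℕ} (hζ : orderOf ζ = N)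
    {y z : Fin D.rank → ℤ} (h : te D ζ y = te D ζ z) (s : Fin D.nroots) :
    (chiZ D s y : ZMod N) = (chiZ D s z : ZMod N) := by
  have h1 := te_conj_xG S ζ y s.isLt (1 : K)
  rw [h, te_conj_xG S ζ z s.isLt, mul_one, mul_one] at h1
  rw [ZMod.intCast_eq_intCast_iff, ← hζ]
  exact zpow_eq_zpow_iff_modEq.1 (Units.ext (S.xG_left_inj s.isLt h1)).symm

theorem card_torsion_kerN_le_of_mod {l N : ℕ} [NeZero N] (A : Matrix (Fin l) (Fin l) ℤ) {s : ℕ} [Fact s.Prime]
    (hker : Nat.card {u : Fin l → ZMod s // red s A *ᵥ u = 0} ≤ s) :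
    Nat.card {v : ↥(kerN N A) // s • v = 0} ≤ s := by
  classical
  have hs : s.Prime := Fact.out
  by_cases hsN : s ∣ N
  · obtain ⟨k, hk⟩ := hsN
    have hk0 : k ≠ 0 := fun h => NeZero.ne N (by rw [hk, h, mul_zero])
    -- every `s`-torsion vector is `k` times a kernel vector modulo `s`
    have hlift : ∀ v : {v : ↥(kerN N A) // s • v = 0}, ∃ u : Fin l → ℤ,
        (fun i => (((k : ℤ) * u i : ℤ) : ZMod N)) = v.1.1 ∧ red s A *ᵥ (fun i => (u i : ZMod s)) = 0 := by
      rintro ⟨⟨v, hv⟩, hsv⟩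
      obtain ⟨w, rfl⟩ := exists_int_lift v
      have hd1 : ∀ i, (k : ℤ) ∣ w i := fun i => by
        have h1 := congrFun (congrArg Subtype.val hsv) i
        change (s • ((w i : ℤ) : ZMod N)) = 0 at h1
        rw [nsmul_eq_mul, ← Int.cast_natCast, ← Int.cast_mul, ZMod.intCast_zmod_eq_zero_iff_dvd, hk] at h1
        push_cast at h1
        exact (mul_dvd_mul_iff_left (Int.natCast_ne_zero.2 hs.ne_zero)).1 h1
      choose u hu using hd1
      refine ⟨u, funext fun i => by show _ = ((w i : ℤ) : ZMod N); rw [hu i], ?_⟩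
      rw [mem_kerN, red_mulVec] at hv
      rw [red_mulVec]
      funext i
      have h2 := (ZMod.intCast_zmod_eq_zero_iff_dvd _ _).1 (congrFun hv i)
      have e : (A *ᵥ w) i = (k : ℤ) * (A *ᵥ u) i := by
        rw [show w = (k : ℤ) • u from funext fun i => hu i, Matrix.mulVec_smul]; rfl
      rw [e, hk] at h2
      push_cast at h2
      rw [mul_comm (s : ℤ), mul_dvd_mul_iff_left (Int.natCast_ne_zero.2 hk0)] at h2
      exact (ZMod.intCast_zmod_eq_zero_iff_dvd _ _).2 h2
    choose U hU1 hU2 using hlift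
    refine le_trans (Nat.card_le_card_of_injective (fun v => (⟨_, hU2 v⟩ : {u : Fin l → ZMod s // red s A *ᵥ u = 0}))
      fun a b hab => ?_) hker
    refine Subtype.ext (Subtype.ext ?_)
    rw [← hU1 a, ← hU1 b]
    funext i
    have h3 := congrFun (congrArg Subtype.val hab) i
    simp only at h3
    rw [ZMod.intCast_eq_intCast_iff_dvd_sub] at h3 ⊢
    rw [hk, ← mul_sub]
    push_cast
    rw [mul_comm (s : ℤ)]
    exact mul_dvd_mul_left _ h3
  · have hone : ∀ v : {v : ↥(kerN N A) // s • v = 0}, v = ⟨0, smul_zero _⟩ := by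
      rintro ⟨⟨v, hv⟩, hsv⟩
      refine Subtype.ext (Subtype.ext (funext fun i => ?_))
      have h1 := congrFun (congrArg Subtype.val hsv) i
      change s • v i = 0 at h1
      show v i = 0
      rw [← ZMod.natCast_zmod_val (v i), nsmul_eq_mul, ← Nat.cast_mul, ZMod.natCast_eq_zero_iff] at h1
      rw [← ZMod.natCast_zmod_val (v i), ZMod.natCast_eq_zero_iff]
      exact (Nat.Coprime.dvd_of_dvd_mul_left ((hs.coprime_iff_not_dvd.2 hsN).symm) h1)
    haveI : Subsingleton {v : ↥(kerN N A) // s • v = 0} := ⟨fun a b => (hone a).trans (hone b).symm⟩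
    exact (Finite.card_le_one_iff_subsingleton.2 inferInstance).trans hs.one_le

variable {F K : Type*} [Field F] [Fintype F] [Field K] [Fintype K] [Algebra F K]

theorem exists_selfcent_of_twist (X : Emb D C E C') {a : Fin D.rank → Fin D.rank → ℤ} (hU : Uni D a) (σ : K →+* K)
    (hσ : ∀ z, σ z = z ^ Fintype.card F) (hσF : ∀ b : F, σ (algebraMap F K b) = algebraMap F K b)
    (hfix : ∀ z : K, σ z = z → ∃ u : F, algebraMap F K u = z) {N : ℕ} [NeZero N] {ζ : Kˣ} (hζ : orderOf ζ = N)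
    (hgen : ∀ c : Kˣ, c ∈ Subgroup.zpowers ζ) {g : GL D.Idx K} (hg : g ∈ D.group K) {L : List (Fin D.rank)}
    {c₁ : Fin D.rank → Kˣ} (en : g⁻¹ * phiG σ D g = Ok.tG D K c₁ * X.S.nL K L)
    (M : Matrix (Fin D.rank) (Fin D.rank) ℤ) (hinvmul : ∀ z : Fin D.rank → ℤ, M *ᵥ (matL D L *ᵥ z) = z)
    (hmulinv : ∀ z : Fin D.rank → ℤ, matL D L *ᵥ (M *ᵥ z) = z)
    (hpos : 0 < (Matrix.scalar (Fin D.rank) (Fintype.card F : ℤ) - M).det)
    (hdvd : (Matrix.scalar (Fin D.rank) (Fintype.card F : ℤ) - M).det.natAbs ∣ N)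
    (htor : ∀ s : ℕ, s.Prime →
      Nat.card {v : ↥(kerN N (Matrix.scalar (Fin D.rank) (Fintype.card F : ℤ) - M)) // s • v = 0} ≤ s)
    {e₁ : Fin D.rank → ℤ}
    (he₁ : (fun i => (e₁ i : ZMod N)) ∈ kerN N (Matrix.scalar (Fin D.rank) (Fintype.card F : ℤ) - M))
    (hreg : ∀ s : Fin D.nroots, (chiZ D s e₁ : ZMod N) ≠ 0)
    (hstab : ∀ u : ↥X.S.WG, (∀ s : Fin D.nroots,
      (chiZ D s (matW X.S hU u *ᵥ e₁) : ZMod N) = (chiZ D s e₁ : ZMod N)) → u = 1) :
    ∃ H : Subgroup ↥(D.group F), IsCyclic ↥H ∧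
      (Nat.card ↥H : ℤ) * ((Fintype.card F - 1).gcd X.d : ℕ) =
        (Matrix.scalar (Fin D.rank) (Fintype.card F : ℤ) - M).det ∧
      Subgroup.centralizer (H : Set ↥(D.group F)) = H := by
  classical
  let S := X.S
  have hN := X.hN
  set q := Fintype.card F with hq
  set n := g⁻¹ * phiG σ D g with hn
  set A : Matrix (Fin D.rank) (Fin D.rank) ℤ := Matrix.scalar (Fin D.rank) (q : ℤ) - M with hA
  -- lifts
  obtain ⟨G, hG⟩ : g ∈ (X.th (K := K)).range := by rw [X.range_th]; exact hg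
  set nn := G⁻¹ * sig σ D G with hnn
  have hthn : X.th nn = n := by rw [hnn, map_mul, map_inv, X.th_sig, hG]
  obtain ⟨-, c₂, -, ec₂⟩ := X.ker_th (g := nn * ((X.pres (K := K)).nLb L)⁻¹ * (X.tor c₁)⁻¹) (by
    rw [map_mul, map_mul, map_inv, map_inv, hthn, X.th_tor, X.th_nLb, en]; group)
  have enn : nn = X.tor (c₂ * c₁) * (X.pres (K := K)).nLb L := by rw [map_mul, ec₂]; group
  let Tt : (Fin D.rank → ℤ) → D.SteinbergGroup K := fun e => G * X.tor (zc ζ e) * G⁻¹
  have htorconj : ∀ z, nn * X.tor (zc ζ z) * nn⁻¹ = X.tor (zc ζ (matL D L *ᵥ z)) := by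
    intro z
    rw [enn, show X.tor (c₂ * c₁) * (X.pres (K := K)).nLb L * X.tor (zc ζ z) *
      (X.tor (c₂ * c₁) * (X.pres (K := K)).nLb L)⁻¹ =
      X.tor (c₂ * c₁) * ((X.pres (K := K)).nLb L * X.tor (zc ζ z) * ((X.pres (K := K)).nLb L)⁻¹) *
        (X.tor (c₂ * c₁))⁻¹ by group, X.nLb_conj, ← map_mul, ← map_inv, ← map_mul, mul_inv_cancel_comm]
  have hsigT : ∀ e, sig σ D (Tt e) = Tt (matL D L *ᵥ ((q : ℤ) • e)) := by
    intro e
    have e1 : zc ζ e ^ q = zc ζ ((q : ℤ) • e) := funext fun i => by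
      simp only [Pi.pow_apply, zc, Pi.smul_apply, smul_eq_mul]
      rw [← zpow_natCast, ← _root_.zpow_mul, mul_comm]
    show sig σ D (G * X.tor (zc ζ e) * G⁻¹) = G * X.tor (zc ζ (matL D L *ᵥ ((q : ℤ) • e))) * G⁻¹
    rw [map_mul, map_mul, map_inv, X.sig_tor σ hσ, e1, ← htorconj, hnn]
    group
  have hTinj : ∀ u v : Fin D.rank → ℤ, Tt u = Tt v ↔ ∀ i, (u i : ZMod N) = (v i : ZMod N) := by
    intro u v
    show G * X.tor (zc ζ u) * G⁻¹ = G * X.tor (zc ζ v) * G⁻¹ ↔ _
    rw [mul_left_inj, mul_right_inj, X.tor_injective.eq_iff, funext_iff]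
    refine forall_congr' fun i => ?_
    rw [ZMod.intCast_eq_intCast_iff, ← hζ]
    exact zpow_eq_zpow_iff_modEq
  -- the fixed part of the torus
  have hker : ∀ e : Fin D.rank → ℤ, sig σ D (Tt e) = Tt e ↔ (fun i => (e i : ZMod N)) ∈ kerN N A := by
    intro e
    rw [hsigT, hTinj, mem_kerN, red_mulVec]
    have e1 : ∀ i, (A *ᵥ e) i = (q : ℤ) * e i - (M *ᵥ e) i := fun i => by
      simp [hA, Matrix.sub_mulVec, Matrix.scalar_apply, Matrix.mulVec_diagonal]
    constructor
    · intro h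
      funext i
      have h1 := congrFun (red_mulVec N (M) (matL D L *ᵥ ((q : ℤ) • e))) i
      rw [hinvmul, funext h, congrFun (red_mulVec N (M) e) i] at h1
      rw [e1 i, Int.cast_sub, Pi.zero_apply, sub_eq_zero, h1]
      simp
    · intro h i
      have h2 : (fun i => ((((q : ℤ) • e) i : ℤ) : ZMod N)) = fun i => ((M *ᵥ e) i : ZMod N) := by
        funext j
        have h3 := congrFun h j
        rw [e1 j, Int.cast_sub, Pi.zero_apply, sub_eq_zero] at h3
        simpa using h3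
      have h1 := congrFun (red_mulVec N (matL D L) ((q : ℤ) • e)) i
      rw [h2, congrFun (red_mulVec N (matL D L) (M *ᵥ e)) i, hmulinv] at h1
      exact h1.symm
  -- the subgroup
  have hval : ∀ b : ↥(kerN N A), ∃ h : ↥(D.group F),
      iota (K := K) D (h : GL D.Idx F) = g * te D ζ (fun i => ((b.1 i).val : ℤ)) * g⁻¹ := by
    intro b
    have he : sig σ D (Tt fun i => ((b.1 i).val : ℤ)) = Tt fun i => ((b.1 i).val : ℤ) := (hker _).2 (by
      convert b.2 using 1
      funext i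
      simp)
    obtain ⟨h, hh, heq⟩ := th_fixed_rational X σ hσ hσF hfix he
    refine ⟨⟨h, hh⟩, heq.trans ?_⟩
    show X.th (G * X.tor _ * G⁻¹) = _
    rw [map_mul, map_mul, map_inv, hG, X.th_tor]
    rfl
  choose ψ hψ using hval
  have hψmul : ∀ b b', ψ (b + b') = ψ b * ψ b' := fun b b' => by
    refine Subtype.ext (iota_injective (K := K) ?_)
    simp only [Subgroup.coe_mul, map_mul, hψ]
    rw [te_congr ζ hζ (z := (fun i => ((b.1 i).val : ℤ)) + fun i => ((b'.1 i).val : ℤ)) (fun i => by simp),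
      te_add]
    group
  let Ψ : Multiplicative ↥(kerN N A) →* ↥(D.group F) := MonoidHom.mk' (fun b => ψ b.toAdd) fun b b' => hψmul _ _
  have hΨval : ∀ (b : ↥(kerN N A)) (e : Fin D.rank → ℤ), (∀ i, (b.1 i) = (e i : ZMod N)) →
      iota (K := K) D ((Ψ (Multiplicative.ofAdd b) : ↥(D.group F)) : GL D.Idx F) = g * te D ζ e * g⁻¹ := by
    intro b e hbe
    show iota (K := K) D ((ψ b : ↥(D.group F)) : GL D.Idx F) = _
    rw [hψ, te_congr ζ hζ (z := e) fun i => by simp [← hbe i]]
  have hkerΨ : Nat.card ↥Ψ.ker = (q - 1).gcd X.d := by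
    have h3 := St.card_torus_ker (F := F) S.ok X.ht
    rw [Nat.card_eq_fintype_card (α := F)] at h3
    rw [← h3]
    let cK : (Fin D.rank → Fˣ) → (Fin D.rank → Kˣ) := fun c i => Units.map (algebraMap F K : F →* K) (c i)
    have hcex : ∀ c : ↥(Ok.tG D F).ker, ∃ b : ↥Ψ.ker,
        zc ζ (fun i => (((Multiplicative.toAdd b.1).1 i).val : ℤ)) = cK c.1 := by
      intro c
      obtain ⟨e, he⟩ := exists_exponents hgen (cK c.1)
      have hth : Ok.tG D K (cK c.1) = 1 := by
        rw [← iota_tG, show Ok.tG D F c.1 = 1 from c.2, map_one]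
      have hcen : X.tor (cK c.1) ∈ Subgroup.center (D.SteinbergGroup K) :=
        (X.ker_th (by rw [X.th_tor, hth])).1
      have hfixe : sig σ D (Tt e) = Tt e := by
        have e1 : Tt e = X.tor (cK c.1) := by
          show G * X.tor (zc ζ e) * G⁻¹ = _
          rw [he, Subgroup.mem_center_iff.1 hcen, mul_inv_cancel_right]
        rw [e1, X.sig_tor σ hσ]
        congr 1
        funext i
        refine Units.ext ?_
        rw [Pi.pow_apply, Units.val_pow_eq_pow_val, Units.coe_map]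
        show algebraMap F K (c.1 i : F) ^ q = _
        rw [← map_pow, hq, FiniteField.pow_card]
        rfl
      have hb := (hker e).1 hfixe
      have hval' : zc ζ (fun i => (((e i : ℤ) : ZMod N)).val) = cK c.1 := by
        rw [← he]
        funext i
        exact zpow_eq_zpow_iff_modEq.2 (by rw [hζ, ← ZMod.intCast_eq_intCast_iff]; simp)
      refine ⟨⟨Multiplicative.ofAdd ⟨_, hb⟩, ?_⟩, hval'⟩
      rw [MonoidHom.mem_ker]
      refine Subtype.ext (iota_injective (K := K) ?_)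
      rw [hΨval _ e (fun i => rfl), te, he, hth, mul_one, mul_inv_cancel, OneMemClass.coe_one, map_one]
    choose fwd hfwd using hcex
    refine (Nat.card_congr (Equiv.ofBijective fwd ⟨fun c c' hcc => ?_, fun b => ?_⟩)).symm
    · refine Subtype.ext (funext fun i => Units.map_injective (f := (algebraMap F K : F →* K))
        (algebraMap F K).injective ?_)
      have h1 := hfwd c
      rw [hcc, hfwd c'] at h1
      exact (congrFun h1 i).symm
    · set e : Fin D.rank → ℤ := fun i => (((Multiplicative.toAdd b.1).1 i).val : ℤ) with he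
      have hbe : ∀ i, (Multiplicative.toAdd b.1).1 i = (e i : ZMod N) := fun i => by simp [he]
      have hte1 : Ok.tG D K (zc ζ e) = 1 := by
        have h1 := hΨval _ e hbe
        rw [ofAdd_toAdd, show Ψ b.1 = 1 from b.2, OneMemClass.coe_one, map_one, eq_comm, mul_inv_eq_one,
          mul_eq_left] at h1
        exact h1
      have hcen : X.tor (zc ζ e) ∈ Subgroup.center (D.SteinbergGroup K) :=
        (X.ker_th (by rw [X.th_tor, hte1])).1
      have hfixT : sig σ D (Tt e) = Tt e := (hker e).2 (by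
        convert (Multiplicative.toAdd b.1).2 using 1
        funext i
        exact (hbe i).symm)
      have e1 : Tt e = X.tor (zc ζ e) := by
        show G * X.tor (zc ζ e) * G⁻¹ = _
        rw [Subgroup.mem_center_iff.1 hcen, mul_inv_cancel_right]
      rw [e1, X.sig_tor σ hσ, X.tor_injective.eq_iff] at hfixT
      have hci : ∀ i, σ ((zc ζ e i : Kˣ) : K) = zc ζ e i := fun i => by
        rw [hσ, ← Units.val_pow_eq_pow_val]
        exact congrArg Units.val (congrFun hfixT i)
      choose uu huu using fun i => hfix _ (hci i)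
      have hu0 : ∀ i, uu i ≠ 0 := fun i h => (zc ζ e i).ne_zero (by rw [← huu i, h, map_zero])
      let cF : Fin D.rank → Fˣ := fun i => Units.mk0 (uu i) (hu0 i)
      have ecK : cK cF = zc ζ e := funext fun i => Units.ext (huu i)
      have hcF : Ok.tG D F cF = 1 := iota_injective (K := K) (by rw [iota_tG, map_one]; rw [← ecK] at hte1; exact hte1)
      refine ⟨⟨cF, hcF⟩, Subtype.ext ?_⟩
      have h1 := hfwd ⟨cF, hcF⟩
      rw [ecK] at h1
      refine Multiplicative.toAdd.injective (Subtype.ext (funext fun i => ?_))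
      have h2 := zpow_eq_zpow_iff_modEq.1 (congrFun h1 i)
      rw [hζ, ← ZMod.intCast_eq_intCast_iff] at h2
      simpa [he] using h2
  have hΨcomm : ∀ a b : ↥Ψ.range, a * b = b * a := by
    rintro ⟨_, a, rfl⟩ ⟨_, b, rfl⟩
    exact Subtype.ext (show Ψ a * Ψ b = Ψ b * Ψ a by rw [← map_mul, ← map_mul, mul_comm])
  refine ⟨Ψ.range, ?_, ?_, ?_⟩
  · haveI hcyc : IsAddCyclic ↥(kerN N A) := isAddCyclic_of_prime_torsion htor
    exact isCyclic_of_surjective Ψ.rangeRestrict Ψ.rangeRestrict_surjective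
  · have hcard := card_kerN (N := N) A hpos.ne' hdvd
    have h1 := Ψ.ker.index_mul_card
    rw [Subgroup.index_ker, hkerΨ, Nat.card_congr Multiplicative.toAdd, hcard] at h1
    rw [← Nat.cast_mul, h1, Int.natAbs_of_nonneg hpos.le]
  · refine le_antisymm ?_ ?_
    · intro z hz
      rw [Subgroup.mem_centralizer_iff] at hz
      set x₁ := Ψ (Multiplicative.ofAdd ⟨_, he₁⟩) with hx₁
      have hxv : iota (K := K) D (x₁ : GL D.Idx F) = g * te D ζ e₁ * g⁻¹ := hΨval _ e₁ fun i => rfl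
      have hzx : iota (K := K) D (x₁ : GL D.Idx F) * iota (K := K) D (z : GL D.Idx F) =
          iota (K := K) D (z : GL D.Idx F) * iota (K := K) D (x₁ : GL D.Idx F) := by
        rw [← map_mul, ← map_mul, ← Subgroup.coe_mul, ← Subgroup.coe_mul, hz x₁ ⟨_, rfl⟩]
      rw [hxv] at hzx
      set z' := g⁻¹ * iota (K := K) D (z : GL D.Idx F) * g with hz'
      have hm : z' * te D ζ e₁ * z'⁻¹ = te D ζ e₁ := by
        rw [hz', show g⁻¹ * iota (K := K) D (z : GL D.Idx F) * g * te D ζ e₁ *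
          (g⁻¹ * iota (K := K) D (z : GL D.Idx F) * g)⁻¹ =
          g⁻¹ * (iota (K := K) D (z : GL D.Idx F) * (g * te D ζ e₁ * g⁻¹)) *
            (iota (K := K) D (z : GL D.Idx F))⁻¹ * g by group, ← hzx]
        group
      obtain ⟨L₁, v', d', u', hv', hd', hu', ez, eL', ecu', ecv'⟩ :=
        conj_te S hN ζ (mul_mem (mul_mem (inv_mem hg) (iota_group S z.2)) hg) hm
      have hregz : ∀ s : Fin D.nroots, ζ ^ chiZ D s e₁ ≠ 1 := fun s h => by
        rw [← orderOf_dvd_iff_zpow_eq_one, hζ, ← ZMod.intCast_zmod_eq_zero_iff_dvd] at h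
        exact hreg s h
      rw [eq_one_of_commute_te S ζ e₁ hregz hv' ecv', one_mul,
        eq_one_of_commute_te S ζ e₁ hregz (S.UPsi_le _ hu') ecu', mul_one] at ez
      have hw1 := congrArg Subtype.val (hstab ⟨S.wpL L₁, S.wpL_mem_WG L₁⟩ fun s => by
        rw [matW_eq S hU (⟨S.wpL L₁, S.wpL_mem_WG L₁⟩ : ↥S.WG) rfl]
        exact te_eq_imp S ζ hζ eL' s)
      have hdiag : z' ∈ D.diagonalSubgroup K := by
        rw [hz', ez]; exact mul_mem hd' (S.nL_mem_diag _ L₁ rfl hw1)
      rw [S.ok.diagonalSubgroup_eq] at hdiag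
      obtain ⟨c', hc'⟩ := hdiag
      obtain ⟨e, rfl⟩ := exists_exponents hgen c'
      have he : iota (K := K) D (z : GL D.Idx F) = g * te D ζ e * g⁻¹ := by
        rw [show te D ζ e = z' from hc', hz']; group
      obtain ⟨Z, hZfix, hZe⟩ := exists_fixed_lift X σ hσF z.2
      obtain ⟨-, c₃, hc₃, ec₃⟩ := X.ker_th (g := G⁻¹ * Z * G * (X.tor (zc ζ e))⁻¹) (by
        rw [map_mul, map_mul, map_mul, map_inv, map_inv, hG, hZe, he, X.th_tor, te]; group)
      obtain ⟨e', he'⟩ := exists_exponents hgen (c₃ * zc ζ e)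
      have e1 : Tt e' = Z := by
        show G * X.tor (zc ζ e') * G⁻¹ = Z
        rw [he', map_mul, ec₃]; group
      have hb := (hker e').1 (by rw [e1]; exact hZfix)
      refine ⟨Multiplicative.ofAdd ⟨_, hb⟩, Subtype.ext (iota_injective (K := K) ?_)⟩
      rw [hΨval _ e' (fun i => rfl), te, he', map_mul, hc₃, one_mul, he]
      rfl
    · intro b hb
      rw [Subgroup.mem_centralizer_iff]
      intro c hc
      exact congrArg Subtype.val (hΨcomm ⟨c, hc⟩ ⟨b, hb⟩)

end Cfsg.Lib.CyclicTorus
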