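import Cfsg.Agent.Chev.CyclicTorus.E7.Eigen

/-! A self-centralizing cyclic subgroup of order `Φ₁₂(q)(q³ + 1)/(2, q - 1)` in the adjoint group of type `E7`. -/

set_option autoImplicit false
set_option linter.unusedSectionVars false
set_option linter.style.haveILetI false
set_option maxHeartbeats 2000000
set_option maxRecDepth 4000

open Cfsg.Lie

namespace Cfsg.Lib.CyclicTorus.E7T

open Cfsg.Lib.Chev Matrix

theorem det_rank_one {l : ℕ} (c : ℤ) (hc : c ≠ 0) (u v : Fin l → ℤ) :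
    c * (c • (1 : Matrix (Fin l) (Fin l) ℤ) + Matrix.vecMulVec u v).det = c ^ l * (c + v ⬝ᵥ u) := by
  refine Int.cast_injective (α := ℚ) ?_
  push_cast
  have hc' : (c : ℚ) ≠ 0 := Int.cast_ne_zero.2 hc
  have e : (c • (1 : Matrix (Fin l) (Fin l) ℤ) + Matrix.vecMulVec u v).map (fun x => (x : ℚ)) =
      (c : ℚ) • (1 + Matrix.replicateCol Unit (fun i => (u i : ℚ) / c) *
        Matrix.replicateRow Unit (fun i => (v i : ℚ))) := by
    ext i j
    rw [Matrix.map_apply, Matrix.add_apply, Matrix.smul_apply, Matrix.smul_apply, Matrix.add_apply, Matrix.mul_apply]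
    by_cases h : i = j
    · subst h; simp [Matrix.vecMulVec, Matrix.one_apply_eq]; field_simp
    · simp [Matrix.vecMulVec, Matrix.one_apply_ne h]; field_simp
  rw [e, Matrix.det_smul, Fintype.card_fin, Matrix.det_one_add_replicateCol_mul_replicateRow]
  have e2 : ((v ⬝ᵥ u : ℤ) : ℚ) = (c : ℚ) * ((fun i => (v i : ℚ)) ⬝ᵥ fun i => (u i : ℚ) / c) := by
    simp only [dotProduct, Int.cast_sum, Int.cast_mul, Finset.mul_sum]
    refine Finset.sum_congr rfl fun i _ => ?_
    field_simp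
  rw [e2]
  ring

theorem cube_succ_two : ∀ z : ZMod 2, z ^ 3 + 1 = 0 → 5 = z := by decide

theorem shift_ne_zero {Z m R e : ℤ} (h : |Z| < m) (hR : 2 ≤ R) (he : e = 2 ∨ e = -2) : Z + m * R * e ≠ 0 := by
  obtain ⟨h1, h2⟩ := abs_lt.1 h
  intro h0
  rcases he with rfl | rfl <;> nlinarith

theorem vecMulVec_mulVec' {l : ℕ} (u v x : Fin l → ℤ) : Matrix.vecMulVec u v *ᵥ x = (v ⬝ᵥ x) • u := by
  funext i
  simp only [Matrix.mulVec, dotProduct, Matrix.vecMulVec, Matrix.of_apply, Pi.smul_apply, smul_eq_mul,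
    Finset.sum_mul]
  exact Finset.sum_congr rfl fun j _ => by ring

theorem det_corrected {M0 M : Matrix (Fin chevE7.rank) (Fin chevE7.rank) ℤ} {b₀ b₁ b₂ : Fin chevE7.nroots}
    (e0 : M0 *ᵥ cv b₀ = cv b₂) (e1 : M0 *ᵥ cv b₁ = cv b₀) (e2 : M0 *ᵥ cv b₂ = cv b₁)
    (horth : Orth b₀ b₁ ∧ Orth b₁ b₂ ∧ Orth b₀ b₂)
    (hM : ∀ t, M *ᵥ t = M0 *ᵥ t - chiZ chevE7 b₀ t • cv b₂) (b : ℤ) (hb : b ^ 3 ≠ 1) :
    (b ^ 3 - 1) * (Matrix.scalar (Fin chevE7.rank) b - M).det =
      (b ^ 3 + 1) * (Matrix.scalar (Fin chevE7.rank) b - M0).det := by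
  set c := b ^ 3 - 1 with hcd
  have hc : c ≠ 0 := sub_ne_zero.2 hb
  let u0 : Fin chevE7.rank → ℤ := b ^ 2 • cv b₂ + b • cv b₁ + cv b₀
  let χ : Fin chevE7.rank → ℤ := fun j => chevE7.cartan j b₀
  have hs : ∀ (M : Matrix (Fin chevE7.rank) (Fin chevE7.rank) ℤ) (x : Fin chevE7.rank → ℤ),
      (Matrix.scalar (Fin chevE7.rank) b - M) *ᵥ x = b • x - M *ᵥ x := fun M x => by
    funext i; simp [Matrix.sub_mulVec, Matrix.scalar_apply, Matrix.mulVec_diagonal]
  have heq : c • (Matrix.scalar (Fin chevE7.rank) b - M) =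
      (Matrix.scalar (Fin chevE7.rank) b - M0) * (c • 1 + Matrix.vecMulVec u0 χ) := by
    refine Matrix.ext_of_mulVec_single fun j => ?_
    generalize (Pi.single j (1 : ℤ) : Fin chevE7.rank → ℤ) = x
    rw [Matrix.smul_mulVec, hs, hM, ← Matrix.mulVec_mulVec, Matrix.add_mulVec, vecMulVec_mulVec',
      Matrix.smul_mulVec, Matrix.one_mulVec, hs, Matrix.mulVec_add, Matrix.mulVec_smul, Matrix.mulVec_smul]
    simp only [u0, Matrix.mulVec_add, Matrix.mulVec_smul, e0, e1, e2]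
    rw [show χ ⬝ᵥ x = chiZ chevE7 b₀ x from rfl, hcd]
    funext i
    simp only [Pi.add_apply, Pi.sub_apply, Pi.smul_apply, smul_eq_mul]
    ring
  have hχ : χ ⬝ᵥ u0 = 2 := by
    show chiZ chevE7 b₀ (b ^ 2 • cv b₂ + b • cv b₁ + cv b₀) = 2
    rw [chiZ_add, chiZ_lin, horth.2.2.st, horth.1.st, chiZ_cv_self]
    ring
  have h := congrArg Matrix.det heq
  rw [Matrix.det_smul, Matrix.det_mul, Fintype.card_fin] at h
  have h2 := det_rank_one c hc u0 χ
  rw [hχ] at h2
  refine mul_left_cancel₀ (pow_ne_zero chevE7.rank hc) ?_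
  rw [← mul_assoc, mul_comm (c ^ _) c, mul_assoc, h,
    show c * ((Matrix.scalar (Fin chevE7.rank) b - M0).det * (c • 1 + Matrix.vecMulVec u0 χ).det) =
      (Matrix.scalar (Fin chevE7.rank) b - M0).det * (c * (c • 1 + Matrix.vecMulVec u0 χ).det) by ring, h2, hcd]
  ring

theorem det_block {M0 : Matrix (Fin chevE7.rank) (Fin chevE7.rank) ℤ}
    {M6 : Matrix (Fin chevE6.rank) (Fin chevE6.rank) ℤ} (hrow : ∀ t : Fin chevE7.rank → ℤ, (M0 *ᵥ t) ⟨6, by decide +kernel⟩ = t ⟨6, by decide +kernel⟩)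
    (hext : ∀ z, M0 *ᵥ extZ chevE6.rank chevE7.rank z = extZ chevE6.rank chevE7.rank (M6 *ᵥ z)) (b : ℤ) :
    (Matrix.scalar (Fin chevE7.rank) b - M0).det = (b - 1) * (Matrix.scalar (Fin chevE6.rank) b - M6).det := by
  let A : Matrix (Fin (6 + 1)) (Fin (6 + 1)) ℤ := Matrix.scalar (Fin chevE7.rank) b - M0
  show A.det = _
  have hl : ∀ j : Fin chevE7.rank, (Matrix.scalar (Fin chevE7.rank) b - M0) ⟨6, by decide +kernel⟩ j =
      if j = ⟨6, by decide +kernel⟩ then b - 1 else 0 := fun j => by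
    have h : M0 ⟨6, by decide +kernel⟩ j = (Pi.single j (1 : ℤ) : Fin chevE7.rank → ℤ) ⟨6, by decide +kernel⟩ := by
      rw [← hrow (Pi.single j 1)]; exact (congrFun (Matrix.mulVec_single_one M0 j) _).symm
    rw [Matrix.sub_apply, h, Matrix.scalar_apply, Matrix.diagonal_apply, Pi.single_apply]
    by_cases e : j = ⟨6, by decide +kernel⟩
    · rw [if_pos e.symm, if_pos e, if_pos e.symm]
    · rw [if_neg (Ne.symm e), if_neg e, if_neg (Ne.symm e), sub_zero]
  have hlast : ∀ j : Fin (6 + 1), A (Fin.last 6) j = if j = Fin.last 6 then b - 1 else 0 := fun j => hl j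
  have hkey : ∀ i k : Fin chevE6.rank, Matrix.scalar (Fin chevE7.rank) b (up i) (up k) - M0 (up i) (up k) =
      Matrix.scalar (Fin chevE6.rank) b i k - M6 i k := by
    intro i k
    have e1 : extZ chevE6.rank chevE7.rank (Pi.single k 1) = Pi.single (up k) 1 := by
      funext m
      by_cases h : m.val < chevE6.rank
      · simp only [extZ, dif_pos h, Pi.single_apply, Fin.ext_iff, up]
      · have : m ≠ up k := fun e => h (by rw [e]; exact k.isLt)
        simp [extZ, h, this]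
    have e2 : M0 (up i) (up k) = M6 i k := by
      have h := congrFun (hext (Pi.single k 1)) (up i)
      rw [e1, Matrix.mulVec_single_one] at h
      refine Eq.trans h ?_
      unfold extZ
      rw [dif_pos (show (up i).val < chevE6.rank from i.isLt)]
      exact congrFun (Matrix.mulVec_single_one M6 k) i
    rw [e2, Matrix.scalar_apply, Matrix.scalar_apply, Matrix.diagonal_apply, Matrix.diagonal_apply]
    simp [Fin.ext_iff, up]
  rw [Matrix.det_succ_row A (Fin.last 6), Finset.sum_eq_single (Fin.last 6)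
    (fun j _ hj => by rw [hlast, if_neg hj]; ring) (by simp), hlast, if_pos rfl]
  rw [show (-1 : ℤ) ^ ((Fin.last 6 : ℕ) + (Fin.last 6 : ℕ)) = 1 by norm_num, one_mul]
  congr 1
  refine congrArg Matrix.det (Matrix.ext fun i k => ?_)
  rw [Matrix.submatrix_apply, Fin.succAbove_last]
  exact hkey i k

theorem exists_selfcent_e7 (X6 : Emb chevE6 E6.cert chevE7 E7.cert) (hd3 : X6.d = 3)
    (X : Emb chevE7 E7.cert chevE8 E8.cert) {a : Fin chevE7.rank → Fin chevE7.rank → ℤ} (hU : Uni chevE7 a)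
    {a6 : Fin chevE6.rank → Fin chevE6.rank → ℤ} (hU6 : Uni chevE6 a6) (F : Type*) [Field F] [Fintype F]
    (hcoord : ∀ (r : ℕ) [Fact r.Prime], 13 ≤ r → ∀ t : Fin chevE7.rank → ℤ,
      (∀ s : Fin chevE7.nroots, (chiZ chevE7 s t : ZMod r) = 0) → ∀ i, (t i : ZMod r) = 0) :
    ∃ H : Subgroup ↥(chevE7.group F), IsCyclic ↥H ∧
      (Nat.card ↥H : ℤ) * ((Fintype.card F - 1).gcd X.d : ℕ) =
        (Polynomial.cyclotomic 12 ℤ).eval (Fintype.card F : ℤ) * ((Fintype.card F : ℤ) ^ 3 + 1) ∧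
      Subgroup.centralizer (H : Set ↥(chevE7.group F)) = H := by
  classical
  set q := Fintype.card F with hq
  have hq2 : 1 < q := Fintype.one_lt_card
  obtain ⟨r, hr, hrd, hprim⟩ := exists_primitive_prime (d := 12) hq2 (by norm_num) (by norm_num)
  haveI := Fact.mk hr
  have h13 : 13 ≤ r := by
    have := Nat.le_of_dvd (by have := hr.two_le; omega) hrd
    omega
  have hsmall : ∀ M : ℕ, 0 < M → M ≤ 12 → ¬ r ∣ M := fun M h0 h12 h => by have := Nat.le_of_dvd h0 h; omega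
  have hW6 : ¬ r ∣ Nat.card ↥E6.struct.WG := fun h => by
    rw [show Nat.card ↥E6.struct.WG = 51840 from
      by exact_mod_cast (E6.struct.natCard_WG E6.poincare).trans E6.weylCard,
      show (51840 : ℕ) = 2 ^ 7 * (3 ^ 4 * 5) by norm_num] at h
    rcases hr.dvd_mul.1 h with h | h
    · exact hsmall 2 (by norm_num) (by norm_num) (hr.dvd_of_dvd_pow h)
    rcases hr.dvd_mul.1 h with h | h
    · exact hsmall 3 (by norm_num) (by norm_num) (hr.dvd_of_dvd_pow h)
    · exact hsmall 5 (by norm_num) (by norm_num) h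
  have hW : ¬ r ∣ Nat.card ↥E7.struct.WG := fun h => by
    rw [show Nat.card ↥E7.struct.WG = 2903040 from
      by exact_mod_cast (E7.struct.natCard_WG E7.poincare).trans E7.weylCard,
      show (2903040 : ℕ) = 2 ^ 10 * (3 ^ 4 * (5 * 7)) by norm_num] at h
    rcases hr.dvd_mul.1 h with h | h
    · exact hsmall 2 (by norm_num) (by norm_num) (hr.dvd_of_dvd_pow h)
    rcases hr.dvd_mul.1 h with h | h
    · exact hsmall 3 (by norm_num) (by norm_num) (hr.dvd_of_dvd_pow h)
    rcases hr.dvd_mul.1 h with h | h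
    · exact hsmall 5 (by norm_num) (by norm_num) h
    · exact hsmall 7 (by norm_num) (by norm_num) h
  -- the field
  obtain ⟨p, hp⟩ := CharP.exists F
  haveI : Fact p.Prime := ⟨CharP.char_is_prime F p⟩
  haveI : NeZero 12 := ⟨by norm_num⟩
  let K := FiniteField.Extension F p 12
  haveI : Fintype K := Fintype.ofFinite K
  have hK : Fintype.card K = q ^ 12 := by
    rw [← Nat.card_eq_fintype_card, FiniteField.natCard_extension, Nat.card_eq_fintype_card]
  set N := Fintype.card K - 1 with hNdef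
  have hN1 : 0 < N := by have := Fintype.one_lt_card (α := K); omega
  haveI : NeZero N := ⟨hN1.ne'⟩
  have hNZ : (N : ℤ) = (q : ℤ) ^ 12 - 1 := by
    rw [hNdef, hK, Nat.cast_sub (Nat.one_le_pow _ _ (by omega))]; push_cast; rfl
  obtain ⟨ζ, hgen⟩ := IsCyclic.exists_generator (α := Kˣ)
  have hζ : orderOf ζ = N := by
    rw [orderOf_eq_card_of_forall_mem_zpowers hgen, Nat.card_units, Nat.card_eq_fintype_card]
  let σ : K →+* K := (FiniteField.frobeniusAlgHom F K).toRingHom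
  have hσ : ∀ z, σ z = z ^ q := fun z => by simp [σ, hq]
  have hσF : ∀ b : F, σ (algebraMap F K b) = algebraMap F K b := fun b => by
    rw [hσ, ← map_pow, hq, FiniteField.pow_card]
  have hfix : ∀ z : K, σ z = z → ∃ u : F, algebraMap F K u = z := by
    intro z hz
    by_contra hno
    push Not at hno
    let P : Polynomial K := Polynomial.X ^ q - Polynomial.X
    have hsub : insert z (Finset.univ.image (algebraMap F K)) ⊆ P.roots.toFinset := by
      intro u hu
      rw [Multiset.mem_toFinset, Polynomial.mem_roots (FiniteField.X_pow_card_sub_X_ne_zero K hq2),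
        Polynomial.IsRoot.def]
      rcases Finset.mem_insert.1 hu with rfl | hu
      · simp [← hσ, hz]
      · obtain ⟨b, -, rfl⟩ := Finset.mem_image.1 hu
        simp [← map_pow, hq, FiniteField.pow_card]
    have h1 := (Finset.card_le_card hsub).trans (P.roots.toFinset_card_le.trans (Polynomial.card_roots' P))
    rw [Finset.card_insert_of_notMem (by
        rw [Finset.mem_image]; rintro ⟨b, -, e⟩; exact hno b e),
      Finset.card_image_of_injective _ (algebraMap F K).injective, Finset.card_univ,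
      FiniteField.X_pow_card_sub_X_natDegree_eq K hq2] at h1
    omega
  -- the twist in `E6`
  obtain ⟨g6, hg6, L6, c6, y, w, hw, en6, heig, hchar, hreg6⟩ := exists_twist_e6 X6 hU6 (e6Facts okE6_chevE6) hd3
    (F := F) (K := K) E6.poincare rfl (by simp) hprim hW6 (fun e he => by
      simp only [List.mem_cons, List.not_mem_nil, or_false] at he
      rcases he with rfl | rfl | rfl | rfl | rfl | rfl <;> exact hsmall _ (by norm_num) (by norm_num))
    (by omega) hK σ hσ hσF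
  let S := E7.struct
  let M6 := matW X6.S hU6 w
  let w6' : ↥X6.S.WG := ⟨X6.S.wpL L6, X6.S.wpL_mem_WG L6⟩
  have hww : w = w6'⁻¹ := Subtype.ext hw
  have h6i : ∀ z, matL chevE6 L6 *ᵥ (M6 *ᵥ z) = z := fun z => by
    show matL chevE6 L6 *ᵥ (matW X6.S hU6 w *ᵥ z) = z
    rw [← matW_eq X6.S hU6 w6' (L := L6) rfl, Matrix.mulVec_mulVec, ← map_mul, hww, mul_inv_cancel, map_one,
      Matrix.one_mulVec]
  have hdet6 : ∀ b : ℤ, (Matrix.scalar (Fin chevE6.rank) b - M6).det =
      (Polynomial.cyclotomic 12 ℤ).eval b * (Polynomial.cyclotomic 3 ℤ).eval b := fun b => by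
    rw [← Polynomial.eval_mul, ← hchar, Matrix.eval_charpoly]
  have h1 : ∀ v : Fin chevE6.rank → ℤ, matL chevE6 L6 *ᵥ v = v → v = 0 := fun v hv => by
    by_contra hv0
    have hM : M6 *ᵥ v = v := by
      conv_lhs => rw [← hv]
      show matW X6.S hU6 w *ᵥ (matL chevE6 L6 *ᵥ v) = v
      rw [← matW_eq X6.S hU6 w6' (L := L6) rfl, Matrix.mulVec_mulVec, ← map_mul, hww, inv_mul_cancel, map_one,
        Matrix.one_mulVec]
    have h := hdet6 1
    rw [eval_cyclotomic_twelve, eval_three, map_one] at h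
    rw [Matrix.exists_mulVec_eq_zero_iff.1 ⟨v, hv0, by rw [Matrix.sub_mulVec, Matrix.one_mulVec, hM, sub_self]⟩] at h
    norm_num at h
  -- transfer to `E7`
  set L := L6.map up with hLd
  set y' := extZ chevE6.rank chevE7.rank y with hy'
  have hext : ∀ z, matL chevE7 L *ᵥ extZ chevE6.rank chevE7.rank z =
      extZ chevE6.rank chevE7.rank (matL chevE6 L6 *ᵥ z) := by
    rw [hLd]
    generalize L6 = M
    induction M with
    | nil => intro z; simp [matL]
    | cons i M ih =>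
      intro z
      rw [List.map_cons, show matL chevE7 (up i :: M.map up) = Rm chevE7 (up i) * matL chevE7 (M.map up) by simp [matL],
        show matL chevE6 (i :: M) = Rm chevE6 i * matL chevE6 M by simp [matL], ← Matrix.mulVec_mulVec, ih,
        ← Matrix.mulVec_mulVec]
      exact X6.extZ_Rm i _
  let wπ : ↥S.WG := ⟨S.wpL L, S.wpL_mem_WG L⟩
  let M0 := matW S hU wπ⁻¹
  have hM0i : ∀ z, M0 *ᵥ (matL chevE7 L *ᵥ z) = z := fun z => by
    show matW S hU wπ⁻¹ *ᵥ (matL chevE7 L *ᵥ z) = z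
    rw [← matW_eq S hU wπ (L := L) rfl, Matrix.mulVec_mulVec, ← map_mul, inv_mul_cancel, map_one, Matrix.one_mulVec]
  have hM0ext : ∀ z, M0 *ᵥ extZ chevE6.rank chevE7.rank z = extZ chevE6.rank chevE7.rank (M6 *ᵥ z) := fun z => by
    conv_lhs => rw [← h6i z, ← hext]
    rw [hM0i]
  have heig' : ∀ i, ((M0 *ᵥ y') i : ZMod r) = ((q : ℤ) : ZMod r) * (y' i : ZMod r) := fun i => by
    rw [hy', hM0ext]
    unfold extZ
    split_ifs with h
    · exact heig ⟨i.val, h⟩
    · simp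
  have hy7 : ∀ s, (chiZ chevE7 (S.wpL L s) y' : ZMod r) = ((q : ℤ) : ZMod r) * (chiZ chevE7 s y' : ZMod r) := by
    intro s
    have e := chiZ_matW_inv S hU wπ⁻¹ (S.wpL L s) y'
    rw [InvMemClass.coe_inv, inv_inv] at e
    have h2 : (chiZ chevE7 (S.wpL L (S.wpL L s)) y' : ZMod r) =
        ((q : ℤ) : ZMod r) * (chiZ chevE7 (S.wpL L s) y' : ZMod r) := by
      rw [← show chiZ chevE7 (S.wpL L s) (M0 *ᵥ y') = chiZ chevE7 (S.wpL L (S.wpL L s)) y' from e]
      simp only [chiZ, Int.cast_sum, Int.cast_mul, heig', Finset.mul_sum]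
      exact Finset.sum_congr rfl fun i _ => by ring
    have e3 := chiZ_matW_inv S hU wπ⁻¹ s y'
    rw [InvMemClass.coe_inv, inv_inv] at e3
    rw [← show chiZ chevE7 s (M0 *ᵥ y') = chiZ chevE7 (S.wpL L s) y' from e3]
    simp only [chiZ, Int.cast_sum, Int.cast_mul, heig', Finset.mul_sum]
    exact Finset.sum_congr rfl fun i _ => by ring
  obtain ⟨b₀, b₁, b₂, T⟩ := exists_triple hprim hU6 X6 L6 h1 hreg6 hy7
  obtain ⟨hc01, hc12, hc20⟩ := T.cyc
  obtain ⟨G6, hG6⟩ : g6 ∈ (X6.th (K := K)).range := by rw [X6.range_th]; exact hg6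
  set nn := G6⁻¹ * sig σ chevE6 G6 with hnn
  obtain ⟨-, c₂, -, ec₂⟩ := X6.ker_th (g := nn * ((X6.pres (K := K)).nLb L6)⁻¹ * (X6.tor c6)⁻¹) (by
    rw [map_mul, map_mul, map_inv, map_inv, hnn, map_mul, map_inv, X6.th_sig, hG6, X6.th_tor, X6.th_nLb, en6]
    group)
  have en7 : (X6.th' G6)⁻¹ * phiG σ chevE7 (X6.th' G6) =
      Ok.tG chevE7 K (St.extTorus K chevE6.rank chevE7.rank (c₂ * c6)) * S.nL K L := by
    rw [← X6.th'_sig, ← map_inv, ← map_mul, ← hnn, ← X6.th'_tor, hLd, show S.nL K (L6.map up) = X6.th' _ from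
      (th'_nLb X6 L6).symm, ← map_mul, map_mul (X6.tor), ec₂]
    congr 1
    group
  obtain ⟨g', hg', L', c', u, j, hju, hL', en'⟩ :=
    exists_flip σ hσ hq2 hK (th'_mem X6 G6) L en7 T.cyc T.mem T.orth T.ne
  let w' : ↥S.WG := ⟨S.wpL L', S.wpL_mem_WG L'⟩
  let ρ : ↥S.WG := u * ⟨S.wp j, Subgroup.subset_closure ⟨j, rfl⟩⟩ * u⁻¹
  have hρ : ρ⁻¹ = ρ := by
    have hj : (⟨S.wp j, Subgroup.subset_closure ⟨j, rfl⟩⟩ : ↥S.WG)⁻¹ =
        ⟨S.wp j, Subgroup.subset_closure ⟨j, rfl⟩⟩ :=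
      inv_eq_of_mul_eq_one_right (Subtype.ext (S.wp_mul_self j))
    show (u * _ * u⁻¹)⁻¹ = _
    rw [_root_.mul_inv_rev, _root_.mul_inv_rev, hj, inv_inv]
    exact (mul_assoc _ _ _).symm
  have hw' : w'⁻¹ = wπ⁻¹ * ρ := by
    rw [show w' = ρ * wπ from Subtype.ext hL', _root_.mul_inv_rev, hρ]
  let M := matW S hU w'⁻¹
  have hM : ∀ t, M *ᵥ t = M0 *ᵥ t - chiZ chevE7 b₀ t • cv b₂ := fun t => by
    show matW S hU w'⁻¹ *ᵥ t = _
    rw [hw', map_mul, ← Matrix.mulVec_mulVec, matW_reflection hU u j hju, Matrix.mulVec_sub, Matrix.mulVec_smul,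
      matW_cv]
    congr 3
    rw [InvMemClass.coe_inv]
    exact congrArg Fin.val (Equiv.Perm.inv_eq_iff_eq.2 hc20.symm)
  have e0 : M0 *ᵥ cv b₀ = cv b₂ := by
    conv_lhs => rw [← hc20, ← matL_cv]
    exact hM0i _
  have e1 : M0 *ᵥ cv b₁ = cv b₀ := by
    conv_lhs => rw [← hc01, ← matL_cv]
    exact hM0i _
  have e2 : M0 *ᵥ cv b₂ = cv b₁ := by
    conv_lhs => rw [← hc12, ← matL_cv]
    exact hM0i _
  have hrow : ∀ t : Fin chevE7.rank → ℤ, (M0 *ᵥ t) ⟨6, by decide +kernel⟩ = t ⟨6, by decide +kernel⟩ := by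
    have h : ∀ (M : List (Fin chevE6.rank)) (t : Fin chevE7.rank → ℤ),
        (matL chevE7 (M.map up) *ᵥ t) ⟨6, by decide +kernel⟩ = t ⟨6, by decide +kernel⟩ := by
      intro M
      induction M with
      | nil => intro t; simp [matL]
      | cons i M ih =>
        intro t
        rw [List.map_cons, show matL chevE7 (up i :: M.map up) = Rm chevE7 (up i) * matL chevE7 (M.map up) by
          simp [matL], ← Matrix.mulVec_mulVec, Rm_mulVec, Pi.sub_apply, ih, Pi.single_eq_of_ne, sub_zero]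
        intro e
        have h6 : (6 : ℕ) = i.val := congrArg Fin.val e
        have hi : i.val < 6 := i.isLt
        omega
    intro t
    have hz : matL chevE7 L *ᵥ (M0 *ᵥ t) = t := by
      show matL chevE7 L *ᵥ (matW S hU wπ⁻¹ *ᵥ t) = t
      rw [← matW_eq S hU wπ (L := L) rfl, Matrix.mulVec_mulVec, ← map_mul, mul_inv_cancel, map_one, Matrix.one_mulVec]
    conv_rhs => rw [← hz, hLd, h]
  have hdet0 : ∀ b : ℤ, (Matrix.scalar (Fin chevE7.rank) b - M0).det =
      (b ^ 3 - 1) * (Polynomial.cyclotomic 12 ℤ).eval b := fun b => by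
    rw [det_block hrow hM0ext b, hdet6, eval_three]; ring
  have hdet : ∀ b : ℤ, b ^ 3 ≠ 1 → (Matrix.scalar (Fin chevE7.rank) b - M).det =
      (Polynomial.cyclotomic 12 ℤ).eval b * (b ^ 3 + 1) := fun b hb => by
    refine mul_left_cancel₀ (sub_ne_zero.2 hb) ?_
    rw [det_corrected e0 e1 e2 T.orth hM b hb, hdet0]
    ring
  have hq31 : (q : ℤ) ^ 3 ≠ 1 := by
    have : (1 : ℤ) < (q : ℤ) ^ 3 := one_lt_pow₀ (by omega) (by norm_num)
    omega
  set A := Matrix.scalar (Fin chevE7.rank) (q : ℤ) - M with hAd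
  have hA : ∀ t, A *ᵥ t = (q : ℤ) • t - M *ᵥ t := fun t => by
    funext i; simp [hAd, Matrix.sub_mulVec, Matrix.scalar_apply, Matrix.mulVec_diagonal]
  have hdetq : A.det = (Polynomial.cyclotomic 12 ℤ).eval (q : ℤ) * ((q : ℤ) ^ 3 + 1) := hdet _ hq31
  have hdetpos : 0 < A.det := by
    rw [hdetq]
    exact mul_pos (Polynomial.cyclotomic_pos' 12 (by exact_mod_cast hq2)) (by positivity)
  have hdvdN : ((q : ℤ) ^ 3 + 1) ∣ (N : ℤ) :=
    ⟨((q : ℤ) ^ 3 - 1) * ((q : ℤ) ^ 6 + 1), by rw [hNZ]; ring⟩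
  have hq3dvd : q ^ 3 + 1 ∣ N := by exact_mod_cast hdvdN
  have hrN : r ∣ N := by
    rw [← ZMod.natCast_eq_zero_iff, hNdef, hK, Nat.cast_sub (Nat.one_le_pow _ _ (by omega)), sub_eq_zero]
    simpa using hprim.pow_eq_one
  obtain ⟨k, hk⟩ := hrN
  obtain ⟨l, hl⟩ := hq3dvd
  have hk0 : k ≠ 0 := by rintro rfl; omega
  have hl0 : l ≠ 0 := by rintro rfl; omega
  have hr31 := not_dvd_cube_succ hprim
  -- the regular exponent vector
  let V := comb (q : ℤ) b₀ b₁ b₂
  have hV : M *ᵥ V = (q : ℤ) • V - ((q : ℤ) ^ 3 + 1) • cv b₂ := by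
    rw [hM]
    simp only [V, comb, Matrix.mulVec_add, Matrix.mulVec_smul, e0, e1, e2]
    rw [show chiZ chevE7 b₀ (cv b₀ + (q : ℤ) • cv b₁ + (q : ℤ) ^ 2 • cv b₂) = 2 by
      rw [add_assoc, chiZ_add, chiZ_lin, chiZ_cv_self, T.orth.1.st, T.orth.2.2.st]; ring]
    funext i
    simp only [Pi.add_apply, Pi.sub_apply, Pi.smul_apply, smul_eq_mul]
    ring
  let e₁ : Fin chevE7.rank → ℤ := (k : ℤ) • y' + (l : ℤ) • V
  have hyA : ∀ i, (r : ℤ) ∣ (A *ᵥ y') i := fun i => by
    rw [← ZMod.intCast_zmod_eq_zero_iff_dvd, hA, hM]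
    simp only [Pi.sub_apply, Pi.smul_apply, smul_eq_mul, Int.cast_sub, Int.cast_mul, heig']
    rw [(T.zero b₀).2 ⟨b₀, by simp, Or.inl rfl⟩]
    ring
  have he₁ : (fun i => (e₁ i : ZMod N)) ∈ kerN N A := by
    rw [mem_kerN, red_mulVec]
    funext i
    rw [Pi.zero_apply, ZMod.intCast_zmod_eq_zero_iff_dvd]
    simp only [e₁, Matrix.mulVec_add, Matrix.mulVec_smul, Pi.add_apply, Pi.smul_apply, smul_eq_mul]
    refine dvd_add ?_ ⟨cv b₂ i, ?_⟩
    · rw [hk]; push_cast; rw [mul_comm (r : ℤ)]; exact mul_dvd_mul_left _ (hyA i)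
    · rw [hA, hV, hl]; simp only [Pi.sub_apply, Pi.smul_apply, smul_eq_mul]; push_cast; ring
  have hchi : ∀ s : ℕ, chiZ chevE7 s e₁ = (k : ℤ) * chiZ chevE7 s y' + (l : ℤ) * chiZ chevE7 s V :=
    fun s => chiZ_lin _ s _ _ _ _
  have hout : ∀ s s' : Fin chevE7.nroots, (N : ℤ) ∣ chiZ chevE7 s e₁ - chiZ chevE7 s' e₁ →
      (chiZ chevE7 s y' : ZMod r) = (chiZ chevE7 s' y' : ZMod r) := by
    intro s s' h
    have h2 : (N : ℤ) ∣ (k : ℤ) * (((q : ℤ) ^ 3 + 1) * (chiZ chevE7 s y' - chiZ chevE7 s' y')) := by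
      have h3 := h.mul_left ((q : ℤ) ^ 3 + 1)
      rw [hchi, hchi] at h3
      have h4 : (N : ℤ) ∣ ((q : ℤ) ^ 3 + 1) * l * (chiZ chevE7 s V - chiZ chevE7 s' V) :=
        Dvd.dvd.mul_right (by rw [hl]; push_cast; exact dvd_rfl) _
      have h5 := dvd_sub h3 h4
      ring_nf at h5 ⊢
      exact h5
    rw [hk] at h2
    push_cast at h2
    rw [mul_comm (r : ℤ), mul_dvd_mul_iff_left (Int.natCast_ne_zero.2 hk0)] at h2
    rcases (Nat.prime_iff_prime_int.1 hr).dvd_or_dvd h2 with h6 | h6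
    · exact absurd (by exact_mod_cast h6) hr31
    · exact ((ZMod.intCast_eq_intCast_iff_dvd_sub _ _ _).2 h6).symm
  let rt : Fin 3 × Bool → ℕ := fun i => if i.2 then [b₀.val, b₁.val, b₂.val].getD i.1 0
    else chevE7.neg ([b₀.val, b₁.val, b₂.val].getD i.1 0)
  have hlist : ∀ s : Fin chevE7.nroots, (chiZ chevE7 s y' : ZMod r) = 0 → ∃ i, rt i = s.val := by
    intro s hs
    obtain ⟨b, hb, h⟩ := (T.zero s).1 hs
    simp only [List.mem_cons, List.not_mem_nil, or_false] at hb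
    rcases hb with rfl | rfl | rfl <;> rcases h with rfl | h
    · exact ⟨(0, true), rfl⟩
    · exact ⟨(0, false), h.symm⟩
    · exact ⟨(1, true), rfl⟩
    · exact ⟨(1, false), h.symm⟩
    · exact ⟨(2, true), rfl⟩
    · exact ⟨(2, false), h.symm⟩
  have hvalV : ∀ i, chiZ chevE7 (rt i) V = val6 q i := by
    have hv : chiZ chevE7 b₀ V = 2 ∧ chiZ chevE7 b₁ V = 2 * q ∧ chiZ chevE7 b₂ V = 2 * (q : ℤ) ^ 2 := by
      refine ⟨?_, ?_, ?_⟩ <;>
      · show chiZ chevE7 _ (cv b₀ + (q : ℤ) • cv b₁ + (q : ℤ) ^ 2 • cv b₂) = _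
        rw [add_assoc, chiZ_add, chiZ_lin]
        simp only [chiZ_cv_self, T.orth.1.st, T.orth.1.ts, T.orth.2.1.st, T.orth.2.1.ts, T.orth.2.2.st, T.orth.2.2.ts]
        ring
    rintro ⟨i, e⟩
    fin_cases i <;> cases e <;> simp [rt, val6, chiZ_neg S b₀.isLt, chiZ_neg S b₁.isLt, chiZ_neg S b₂.isLt, hv]
  have hin : ∀ s s' : Fin chevE7.nroots, (chiZ chevE7 s y' : ZMod r) = 0 → (chiZ chevE7 s' y' : ZMod r) = 0 →
      (N : ℤ) ∣ chiZ chevE7 s e₁ - chiZ chevE7 s' e₁ → s = s' := by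
    intro s s' hs hs' h
    obtain ⟨i, hi⟩ := hlist s hs
    obtain ⟨i', hi'⟩ := hlist s' hs'
    obtain ⟨a1, ha1⟩ := (ZMod.intCast_zmod_eq_zero_iff_dvd _ _).1 hs
    obtain ⟨a2, ha2⟩ := (ZMod.intCast_zmod_eq_zero_iff_dvd _ _).1 hs'
    have h2 : (N : ℤ) ∣ (l : ℤ) * (val6 q i - val6 q i') := by
      have h3 : (N : ℤ) ∣ (k : ℤ) * r * (a1 - a2) := Dvd.dvd.mul_right (by rw [hk]; push_cast; rw [mul_comm]) _
      have h4 := dvd_sub h h3
      rw [hchi, hchi, ha1, ha2, ← hi, ← hi', hvalV, hvalV] at h4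
      ring_nf at h4 ⊢
      exact h4
    rw [hl] at h2
    push_cast at h2
    rw [mul_comm ((q : ℤ) ^ 3 + 1), mul_dvd_mul_iff_left (Int.natCast_ne_zero.2 hl0)] at h2
    rw [val6_inj hq2 h2] at hi
    exact Fin.ext (hi ▸ hi')
  have hreg : ∀ s : Fin chevE7.nroots, (chiZ chevE7 s e₁ : ZMod N) ≠ 0 := by
    intro s h
    rw [ZMod.intCast_zmod_eq_zero_iff_dvd] at h
    obtain ⟨hn1, hn2⟩ := S.neg_neg' s.isLt
    have hh : (N : ℤ) ∣ chiZ chevE7 s e₁ - chiZ chevE7 (⟨chevE7.neg s, hn1⟩ : Fin chevE7.nroots) e₁ := by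
      rw [chiZ_neg S s.isLt, sub_neg_eq_add]
      exact dvd_add h h
    have he := hout s ⟨chevE7.neg s, hn1⟩ hh
    rw [chiZ_neg S s.isLt, Int.cast_neg, eq_neg_iff_add_eq_zero, ← two_mul, mul_eq_zero] at he
    have h0 : (chiZ chevE7 s y' : ZMod r) = 0 := he.resolve_left fun h2 =>
      hsmall 2 (by norm_num) (by norm_num) ((ZMod.natCast_eq_zero_iff 2 r).1 (by exact_mod_cast h2))
    have h4 := hin s ⟨chevE7.neg s, hn1⟩ h0 (by rw [chiZ_neg S s.isLt, Int.cast_neg, h0, neg_zero]) hh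
    have h5 := congrArg Fin.val h4
    obtain ⟨b, hb, hsb⟩ := (T.zero s).1 h0
    have hbt : b.val ∈ top := by
      simp only [List.mem_cons, List.not_mem_nil, or_false] at hb
      rcases hb with rfl | rfl | rfl
      exacts [T.mem.1, T.mem.2.1, T.mem.2.2]
    have hom := (top_spec hbt).2.1
    have h6 : chiZ chevE7 s om = -chiZ chevE7 s om := by
      conv_lhs => rw [show s.val = chevE7.neg s from h5]
      rw [chiZ_neg S s.isLt]
    rcases hsb with rfl | hsb
    · omega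
    · rw [hsb, chiZ_neg S b.isLt, hom] at h6; omega
  have hstab : ∀ v : ↥X.S.WG, (∀ s : Fin chevE7.nroots,
      (chiZ chevE7 s (matW X.S hU v *ᵥ e₁) : ZMod N) = (chiZ chevE7 s e₁ : ZMod N)) → v = 1 := by
    intro v hv
    have hd : ∀ s, (N : ℤ) ∣ chiZ chevE7 ((v : Equiv.Perm (Fin chevE7.nroots))⁻¹ s) e₁ - chiZ chevE7 s e₁ := by
      intro s
      rw [← chiZ_matW_inv X.S hU v s, ← ZMod.intCast_zmod_eq_zero_iff_dvd, Int.cast_sub, hv, sub_self]
    have hyv : ∀ s, (chiZ chevE7 ((v : Equiv.Perm (Fin chevE7.nroots))⁻¹ s) y' : ZMod r) = (chiZ chevE7 s y' : ZMod r) :=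
      fun s => hout _ _ (hd s)
    have hfixΨ : ∀ s : Fin chevE7.nroots, (chiZ chevE7 s y' : ZMod r) = 0 → (v : Equiv.Perm (Fin chevE7.nroots)) s = s := by
      intro s hs
      have h1 : (v : Equiv.Perm (Fin chevE7.nroots))⁻¹ s = s := hin _ _ (by rw [hyv, hs]) hs (hd s)
      exact (Equiv.Perm.inv_eq_iff_eq.1 h1).symm
    have hfixy : ∀ i, ((matW S hU v *ᵥ y') i : ZMod r) = (y' i : ZMod r) := by
      intro i
      have h0 := hcoord r h13 (matW S hU v *ᵥ y' - y') (fun s => by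
        have e : chiZ chevE7 s (matW S hU v *ᵥ y' - y') = chiZ chevE7 s (matW S hU v *ᵥ y') - chiZ chevE7 s y' := by
          simp [chiZ, mul_sub, Finset.sum_sub_distrib]
        rw [e, chiZ_matW_inv S hU v s, Int.cast_sub, hyv, sub_self]) i
      rw [Pi.sub_apply, Int.cast_sub, sub_eq_zero] at h0
      exact h0
    have hb0 : ∃ i, (y' i : ZMod r) ≠ 0 := by
      by_contra hno
      push Not at hno
      have h0 := hreg6 ⟨0, by decide +kernel⟩
      rw [← chiZ_io] at h0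
      exact h0 (by simp [chiZ, show ∀ i, ((extZ chevE6.rank chevE7.rank y i : ℤ) : ZMod r) = 0 from hno])
    have hG : ∀ m ∈ Subgroup.zpowers v, ∀ i, ((matW S hU m *ᵥ y') i : ZMod r) = y' i := by
      intro m hm
      obtain ⟨n, rfl⟩ := mem_powers_iff_mem_zpowers.2 hm
      induction n with
      | zero => intro i; simp
      | succ n ih =>
        intro i
        have e4 := congrFun (red_mulVec r (matW S hU (v ^ n)) (matW S hU v *ᵥ y')) i
        show ((matW S hU (v ^ (n + 1)) *ᵥ y') i : ZMod r) = y' i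
        rw [pow_succ, map_mul, ← Matrix.mulVec_mulVec, ← e4, funext hfixy, congrFun (red_mulVec r _ y') i]
        exact ih (pow_mem (Subgroup.mem_zpowers v) n) i
    obtain ⟨z, -, hzfix, hz⟩ := sum_stab_ne_zero S hU hW (G := Subgroup.zpowers v) hb0 hG
    set B := cv b₀ + cv b₁ + cv b₂ with hB
    have hfixB : matW S hU v *ᵥ B = B := by
      rw [hB, Matrix.mulVec_add, Matrix.mulVec_add, matW_cv, matW_cv, matW_cv,
        hfixΨ b₀ ((T.zero b₀).2 ⟨b₀, by simp, Or.inl rfl⟩), hfixΨ b₁ ((T.zero b₁).2 ⟨b₁, by simp, Or.inl rfl⟩),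
        hfixΨ b₂ ((T.zero b₂).2 ⟨b₂, by simp, Or.inl rfl⟩)]
    set m : ℤ := 1 + ∑ s : Fin chevE7.nroots, |chiZ chevE7 s z| with hm
    refine eq_one_of_fix_regular S hU (z := (1 : ℤ) • z + (m * r) • B) (fun s hs => ?_) ?_
    · rw [chiZ_lin, one_mul] at hs
      by_cases h0 : (chiZ chevE7 s y' : ZMod r) = 0
      · have hB2 : chiZ chevE7 s B = 2 ∨ chiZ chevE7 s B = -2 := by
          obtain ⟨b, hb, hsb⟩ := (T.zero s).1 h0
          have hb2 : chiZ chevE7 b B = 2 := by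
            simp only [List.mem_cons, List.not_mem_nil, or_false] at hb
            rcases hb with rfl | rfl | rfl <;>
            · rw [hB, chiZ_add, chiZ_add]
              simp [chiZ_cv_self, T.orth.1.st, T.orth.1.ts, T.orth.2.1.st, T.orth.2.1.ts, T.orth.2.2.st, T.orth.2.2.ts]
          rcases hsb with rfl | hsb
          · exact Or.inl hb2
          · right; rw [hsb, chiZ_neg S b.isLt, hb2]
        have hle : |chiZ chevE7 s z| < m := by
          rw [hm]
          have h8 : |chiZ chevE7 s z| ≤ ∑ s : Fin chevE7.nroots, |chiZ chevE7 s z| :=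
            Finset.single_le_sum (f := fun s : Fin chevE7.nroots => |chiZ chevE7 s z|)
              (fun i _ => abs_nonneg _) (Finset.mem_univ s)
          linarith
        have hr2 : (2 : ℤ) ≤ r := by exact_mod_cast hr.two_le
        exact shift_ne_zero hle hr2 hB2 hs
      · have h7 := congrArg (Int.cast : ℤ → ZMod r) hs
        push_cast at h7
        rw [ZMod.natCast_self, mul_zero, zero_mul, add_zero] at h7
        have e : (chiZ chevE7 s z : ZMod r) = (Nat.card ↥(Subgroup.zpowers v) : ZMod r) * (chiZ chevE7 s y' : ZMod r) := by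
          simp only [chiZ, Int.cast_sum, Int.cast_mul, hz, Finset.mul_sum]
          exact Finset.sum_congr rfl fun i _ => by ring
        rw [e, mul_eq_zero] at h7
        rcases h7 with h7 | h7
        · exact hW (((ZMod.natCast_eq_zero_iff _ _).1 h7).trans (Subgroup.card_subgroup_dvd_card _))
        · exact h0 h7
    · rw [Matrix.mulVec_add, Matrix.mulVec_smul, Matrix.mulVec_smul, hfixB, hzfix v (Subgroup.mem_zpowers v)]
  have htor : ∀ s : ℕ, s.Prime → Nat.card {x : ↥(kerN N A) // s • x = 0} ≤ s := by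
    intro s hs
    haveI := Fact.mk hs
    have hsp : Prime (s : ℤ) := Nat.prime_iff_prime_int.1 hs
    by_cases hdiv : (s : ℤ) ∣ A.det
    swap
    · exact card_torsion_kerN_le A A (fun i j => rfl) fun h => hdiv (dvd_trans (dvd_pow_self _ two_ne_zero) h)
    rw [hdetq] at hdiv
    have hcong : ∀ q' : ℤ, (q' : ZMod s) = ((q : ℤ) : ZMod s) → ∀ i j,
        (((Matrix.scalar (Fin chevE7.rank) q' - M) i j : ℤ) : ZMod s) = (A i j : ZMod s) := fun q' h i j => by
      rw [hAd, Matrix.sub_apply, Matrix.sub_apply, Matrix.scalar_apply, Matrix.scalar_apply, Matrix.diagonal_apply,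
        Matrix.diagonal_apply, Int.cast_sub, Int.cast_sub]
      split_ifs <;> simp [h]
    have h12 : ∀ z : ℤ, (s : ℤ) ∣ (Polynomial.cyclotomic 12 ℤ).eval z → ¬ s ∣ 12 ∧
        ¬ (s : ℤ) ∣ z ^ 3 + 1 ∧ ¬ (s : ℤ) ∣ z ^ 3 - 1 := by
      intro z hz
      have hs12 : ¬ s ∣ 12 := fun h12 => by
        rw [eval_cyclotomic_twelve, ← ZMod.intCast_zmod_eq_zero_iff_dvd] at hz
        push_cast at hz
        rw [show (12 : ℕ) = 2 ^ 2 * 3 by norm_num] at h12
        rcases hs.dvd_mul.1 h12 with h' | h'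
        · obtain rfl := (Nat.prime_dvd_prime_iff_eq hs Nat.prime_two).1 (hs.dvd_of_dvd_pow h')
          exact twelve_mod_two _ hz
        · obtain rfl := (Nat.prime_dvd_prime_iff_eq hs Nat.prime_three).1 h'
          exact twelve_mod_three _ hz
      have h6 : (s : ℤ) ∣ z ^ 6 + 1 := by
        have := hz.mul_right (z ^ 2 + 1)
        rw [eval_cyclotomic_twelve, show (z ^ 4 - z ^ 2 + 1) * (z ^ 2 + 1) = z ^ 6 + 1 by ring] at this
        exact this
      have hno : ¬ (s : ℤ) ∣ z ^ 6 - 1 := fun h => hs12 (by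
        have h2 := dvd_sub h6 h
        rw [show z ^ 6 + 1 - (z ^ 6 - 1) = (2 : ℤ) by ring] at h2
        have h3 : s ∣ 2 := by exact_mod_cast h2
        exact h3.trans (by norm_num))
      exact ⟨hs12, fun h => hno (by rw [show z ^ 6 - 1 = (z ^ 3 + 1) * (z ^ 3 - 1) by ring]; exact h.mul_right _),
        fun h => hno (by rw [show z ^ 6 - 1 = (z ^ 3 + 1) * (z ^ 3 - 1) by ring]; exact h.mul_left _)⟩
    rcases hsp.dvd_or_dvd hdiv with h | h
    · obtain ⟨hs12, -, -⟩ := h12 _ h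
      obtain ⟨q', hq', hnd⟩ := exists_square_test 12 _ s hs hs12 h
      have hq'd : (s : ℤ) ∣ (Polynomial.cyclotomic 12 ℤ).eval q' := by
        rw [ZMod.intCast_eq_intCast_iff_dvd_sub] at hq'
        exact (dvd_iff_dvd_of_dvd_sub (hq'.trans (Polynomial.sub_dvd_eval_sub _ _ _))).1 h
      obtain ⟨-, hn1, hn2⟩ := h12 _ hq'd
      have hb : q' ^ 3 ≠ 1 := fun e => hn2 (by rw [e]; simp)
      refine card_torsion_kerN_le A (Matrix.scalar (Fin chevE7.rank) q' - M) (hcong q' hq') ?_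
      rw [hdet _ hb]
      exact fun h' => hnd (hsp.pow_dvd_of_dvd_mul_right 2 hn1 h')
    · by_cases hs2 : s = 2
      · subst hs2
        refine card_torsion_kerN_le A (Matrix.scalar (Fin chevE7.rank) 5 - M) (hcong 5 ?_) ?_
        · rw [← ZMod.intCast_zmod_eq_zero_iff_dvd] at h
          push_cast at h ⊢
          exact cube_succ_two _ h
        · rw [hdet _ (by norm_num), eval_cyclotomic_twelve]; norm_num
      · refine card_torsion_kerN_le_of_mod A ?_
        refine le_trans (Nat.card_le_card_of_injective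
          (fun x => ∑ i : Fin chevE7.rank, (chevE7.cartan i b₀ : ZMod s) * x.1 i) ?_) (by rw [Nat.card_zmod])
        rintro ⟨x, hx⟩ ⟨x', hx'⟩ hxx
        by_contra hne
        obtain ⟨d, hd⟩ := exists_int_lift (x - x')
        have hd0 : ∃ i, (d i : ZMod s) ≠ 0 := by
          by_contra hno
          push Not at hno
          exact hne (Subtype.ext (sub_eq_zero.1 (hd ▸ funext hno)))
        have hχ : (chiZ chevE7 b₀ d : ZMod s) = 0 := by
          simp only [chiZ, Int.cast_sum, Int.cast_mul]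
          rw [show (fun i : Fin chevE7.rank => (chevE7.cartan i b₀ : ZMod s) * (d i : ZMod s)) =
            fun i : Fin chevE7.rank => (chevE7.cartan i b₀ : ZMod s) * x i - (chevE7.cartan i b₀ : ZMod s) * x' i from
            funext fun i => by rw [show (d i : ZMod s) = (x - x') i from congrFun hd i, Pi.sub_apply, mul_sub],
            Finset.sum_sub_distrib, sub_eq_zero]
          exact hxx
        have hAd0 : ∀ i, ((A *ᵥ d) i : ZMod s) = 0 := fun i => by
          have h9 := congrFun (red_mulVec s A d) i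
          rw [hd, Matrix.mulVec_sub, hx, hx', sub_zero, Pi.zero_apply] at h9
          exact h9.symm
        have hM0d : ((Matrix.scalar (Fin chevE7.rank) (q : ℤ) - M0).map (Int.castRingHom (ZMod s))).det = 0 := by
          obtain ⟨i, hi⟩ := hd0
          refine Matrix.exists_mulVec_eq_zero_iff.1 ⟨fun i => (d i : ZMod s), fun h0 => hi (congrFun h0 i), ?_⟩
          funext i'
          have h9 := congrFun (red_mulVec s (Matrix.scalar (Fin chevE7.rank) (q : ℤ) - M0) d) i'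
          refine Eq.trans h9 ?_
          have e : ((Matrix.scalar (Fin chevE7.rank) (q : ℤ) - M0) *ᵥ d) i' =
              (A *ᵥ d) i' - chiZ chevE7 b₀ d * cv b₂ i' := by
            rw [hA, hM]
            simp [Matrix.sub_mulVec, Matrix.scalar_apply, Matrix.mulVec_diagonal]
            ring
          rw [e, Int.cast_sub, Int.cast_mul, hAd0, hχ, zero_mul, sub_zero, Pi.zero_apply]
        rw [← RingHom.mapMatrix_apply, ← RingHom.map_det, hdet0, eq_intCast,
          ZMod.intCast_zmod_eq_zero_iff_dvd] at hM0d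
        rcases hsp.dvd_or_dvd hM0d with h8 | h8
        · refine hs2 ((Nat.prime_dvd_prime_iff_eq hs Nat.prime_two).1 ?_)
          have := dvd_sub h h8
          rw [show (q : ℤ) ^ 3 + 1 - ((q : ℤ) ^ 3 - 1) = 2 by ring] at this
          exact_mod_cast this
        · exact (h12 _ h8).2.1 h
  have hdvd : A.det.natAbs ∣ N := by
    rw [← Int.natCast_dvd_natCast, Int.natAbs_of_nonneg hdetpos.le, hdetq, eval_cyclotomic_twelve, hNZ]
    exact ⟨((q : ℤ) ^ 3 - 1) * ((q : ℤ) ^ 2 + 1), by ring⟩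
  obtain ⟨H, h1H, h2H, h3H⟩ := exists_selfcent_of_twist X hU σ hσ hσF hfix hζ hgen hg' (L := L') (c₁ := c') en' M
    (fun z => by
      show matW S hU w'⁻¹ *ᵥ (matL chevE7 L' *ᵥ z) = z
      rw [← matW_eq S hU w' (L := L') rfl, Matrix.mulVec_mulVec, ← map_mul, inv_mul_cancel, map_one, Matrix.one_mulVec])
    (fun z => by
      show matL chevE7 L' *ᵥ (matW S hU w'⁻¹ *ᵥ z) = z
      rw [← matW_eq S hU w' (L := L') rfl, Matrix.mulVec_mulVec, ← map_mul, mul_inv_cancel, map_one, Matrix.one_mulVec])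
    hdetpos hdvd htor he₁ hreg hstab
  exact ⟨H, h1H, h2H.trans hdetq, h3H⟩

end Cfsg.Lib.CyclicTorus.E7T
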