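import Cfsg.Agent.Chev.CyclicTorus.E7.General

/-! Type `E6` over the field with `q ^ 12` elements: a Frobenius twist with regular eigenvalue of order twelve. -/

set_option autoImplicit false
set_option linter.unusedSectionVars false
set_option linter.style.haveILetI false
set_option maxHeartbeats 2000000

open Cfsg.Lie

namespace Cfsg.Lib.CyclicTorus

open Cfsg.Lib.Chev Matrix

variable {D E : ChevalleyDatum} {C C' : Cert} {F K : Type*} [Field F] [Fintype F] [Field K] [Fintype K] [Algebra F K]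

theorem exists_twist_e6 (X : Emb D C E C') {a : Fin D.rank → Fin D.rank → ℤ} (hU : Uni D a)
    (hF : E6Facts D) (hd3 : X.d = 3) {Ls : List Lev} {ds : List ℕ} (hP : okPoincare C Ls ds = true)
    (hlen : ds.length = D.rank) (hdmem : 12 ∈ ds) {r : ℕ} [Fact r.Prime]
    (hprim : IsPrimitiveRoot ((Fintype.card F : ℤ) : ZMod r) 12) (hW : ¬ r ∣ Nat.card ↥X.S.WG)
    (hds : ∀ e ∈ ds, ¬ r ∣ e) (hr3 : r ≠ 3) (hK : Fintype.card K = Fintype.card F ^ 12) (σ : K →+* K)
    (hσ : ∀ z, σ z = z ^ Fintype.card F) (hσF : ∀ b : F, σ (algebraMap F K b) = algebraMap F K b) :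
    ∃ (g : GL D.Idx K) (_ : g ∈ D.group K) (L : List (Fin D.rank)) (c₁ : Fin D.rank → Kˣ) (y : Fin D.rank → ℤ)
      (w : ↥X.S.WG), (w : Equiv.Perm (Fin D.nroots)) = (X.S.wpL L)⁻¹ ∧
      g⁻¹ * phiG σ D g = Ok.tG D K c₁ * X.S.nL K L ∧
      (∀ i, ((matW X.S hU w *ᵥ y) i : ZMod r) = ((Fintype.card F : ℤ) : ZMod r) * (y i : ZMod r)) ∧
      (matW X.S hU w).charpoly = Polynomial.cyclotomic 12 ℤ * Polynomial.cyclotomic 3 ℤ ∧
      ∀ s : Fin D.nroots, (chiZ D s y : ZMod r) ≠ 0 := by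
  classical
  let S := X.S
  have hN := X.hN
  set q := Fintype.card F with hq
  have hq2 : 1 < q := Fintype.one_lt_card
  set N := Fintype.card K - 1 with hNdef
  have hN1 : 0 < N := by have := Fintype.one_lt_card (α := K); omega
  haveI : NeZero N := ⟨hN1.ne'⟩
  have hqd : (q : ZMod r) ^ 12 = 1 := by simpa using hprim.pow_eq_one
  have hrN : r ∣ N := by
    rw [← ZMod.natCast_eq_zero_iff, hNdef, hK, Nat.cast_sub (Nat.one_le_pow _ _ (by omega))]
    simp [hqd]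
  have hr3' : ¬ r ∣ 3 := fun h => hr3 ((Nat.prime_dvd_prime_iff_eq Fact.out Nat.prime_three).1 h)
  have hgcd : ∀ Q : ℕ, ¬ r ∣ Q.gcd 3 := fun Q h => hr3' (h.trans (Nat.gcd_dvd_right _ _))
  have hgpos : ∀ Q : ℕ, 0 < Q.gcd 3 := fun Q => Nat.gcd_pos_of_pos_right _ (by norm_num)
  have hdiagK : N.gcd 3 * Nat.card ↥(D.diagonalSubgroup K) = N ^ D.rank := by
    have := card_diag_mul (K := K) S X.ht
    rwa [hd3] at this
  have hdiagF : (q - 1).gcd 3 * Nat.card ↥(D.diagonalSubgroup F) = (q - 1) ^ D.rank := by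
    have := card_diag_mul (K := F) S X.ht
    rwa [hd3] at this
  -- the kernel of the torus has exponent three
  have hexp : ∀ c : Fin D.rank → Kˣ, Ok.tG D K c = 1 → c ^ 3 = 1 := fun c hc => by
    obtain ⟨hk, hiff⟩ := St.torus_ker (F := K) S.ok X.ht
    obtain ⟨hz, hv⟩ := (hiff c).1 hc
    funext i
    rw [Pi.pow_apply, hv i, ← zpow_natCast, ← _root_.zpow_mul, mul_comm, _root_.zpow_mul, zpow_natCast, ← hd3, hz,
      _root_.one_zpow]
    rfl
  -- an element of order `r`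
  have hrG : r ∣ Nat.card ↥(D.group F) := by
    have hcard := S.order_formula (F := F) hN hP (d := (q - 1).gcd 3) rfl hdiagF
    refine ((Fact.out : r.Prime).dvd_mul.1 ?_).resolve_left (hgcd (q - 1))
    rw [hcard]
    refine Dvd.dvd.mul_left ?_ _
    refine dvd_trans ?_ (List.dvd_prod (List.mem_map.2 ⟨12, hdmem, rfl⟩))
    rwa [hNdef, hK] at hrN
  obtain ⟨x₀, hx₀⟩ := exists_prime_orderOf_dvd_card' r hrG
  set x := iota (K := K) D (x₀ : GL D.Idx F) with hxdef
  have hxG : x ∈ D.group K := iota_group S x₀.2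
  have hxr : orderOf x = r := by
    rw [hxdef, orderOf_injective _ iota_injective, Subgroup.orderOf_coe, hx₀]
  have hxfix : ∀ g : GL D.Idx F, phiG σ D (iota (K := K) D g) = iota (K := K) D g := fun g => by
    rw [phiG_eq_self]
    intro i j
    exact hσF _
  obtain ⟨g, hg, htd⟩ := sylow_conj_diag' S hN hP hlen hdiagK (hgpos N) (hgcd N) hrN hds hxG hxr
  -- exponents
  obtain ⟨ζ, hgen⟩ := IsCyclic.exists_generator (α := Kˣ)
  have hζ : orderOf ζ = N := by
    rw [orderOf_eq_card_of_forall_mem_zpowers hgen, Nat.card_units, Nat.card_eq_fintype_card]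
  rw [S.ok.diagonalSubgroup_eq] at htd
  obtain ⟨c, hc⟩ := htd
  obtain ⟨Y₀, rfl⟩ := exists_exponents hgen c
  change te D ζ Y₀ = g⁻¹ * x * g at hc
  obtain ⟨b, hb⟩ : ∃ b : ℤ, (r : ℤ) ∣ 3 * b - 1 := by
    have hcop : IsCoprime (3 : ℤ) r :=
      Nat.isCoprime_iff_coprime.2 ((Nat.coprime_primes Nat.prime_three Fact.out).2 (Ne.symm hr3))
    obtain ⟨u, v, huv⟩ := hcop
    exact ⟨u, ⟨-v, by linear_combination huv⟩⟩
  set Y : Fin D.rank → ℤ := (3 * b) • Y₀ with hYdef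
  have hteYr : te D ζ Y₀ ^ r = 1 := by
    rw [hc, show (g⁻¹ * x * g) ^ r = g⁻¹ * x ^ r * g by
      rw [show g⁻¹ * x * g = g⁻¹ * x * g⁻¹⁻¹ by rw [inv_inv], conj_pow, inv_inv],
      ← hxr, pow_orderOf_eq_one, mul_one, inv_mul_cancel]
  have hteY : te D ζ Y = g⁻¹ * x * g := by
    rw [← hc]
    have e : te D ζ Y = te D ζ Y₀ ^ (3 * b) := by
      rw [te, te, ← map_zpow]
      congr 1
      funext i
      simp only [zc, hYdef, Pi.smul_apply, smul_eq_mul, Pi.pow_apply]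
      rw [← _root_.zpow_mul, mul_comm]
    obtain ⟨m, hm⟩ := hb
    rw [e, show (3 * b : ℤ) = (r : ℤ) * m + 1 by linear_combination hm, _root_.zpow_add, _root_.zpow_mul,
      zpow_natCast, hteYr, _root_.one_zpow, one_mul, _root_.zpow_one]
  have hxY : x = g * te D ζ Y * g⁻¹ := by rw [hteY]; group
  obtain ⟨k, hk⟩ := hrN
  have hk0 : k ≠ 0 := fun h => hN1.ne' (by rw [hk, h, mul_zero])
  have hYdvd : ∀ i, (k : ℤ) ∣ Y i := by
    intro i
    rw [te, ← map_pow] at hteYr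
    have h2 := congrFun (hexp _ hteYr) i
    simp only [Pi.pow_apply, zc, Pi.one_apply] at h2
    rw [← pow_mul, ← zpow_natCast, ← _root_.zpow_mul, ← orderOf_dvd_iff_zpow_eq_one, hζ, hk] at h2
    push_cast at h2
    rw [show Y₀ i * ((r : ℤ) * 3) = (r : ℤ) * (3 * Y₀ i) by ring] at h2
    have h3 := (mul_dvd_mul_iff_left (Int.natCast_ne_zero.2 (Fact.out : r.Prime).ne_zero)).1 h2
    rw [hYdef, Pi.smul_apply, smul_eq_mul, show 3 * b * Y₀ i = b * (3 * Y₀ i) by ring]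
    exact h3.mul_left b
  choose y hy using hYdvd
  have hYk : Y = (k : ℤ) • y := funext hy
  have hteq : ∀ u v : Fin D.rank → ℤ, te D ζ ((k : ℤ) • u) = te D ζ ((k : ℤ) • v) →
      ∀ i, (u i : ZMod r) = (v i : ZMod r) := by
    intro u v h i
    rw [te, te, ← mul_inv_eq_one, ← map_inv, ← map_mul] at h
    have h2 := congrFun (hexp _ h) i
    simp only [Pi.pow_apply, Pi.mul_apply, Pi.inv_apply, zc, Pi.one_apply, Pi.smul_apply, smul_eq_mul] at h2
    rw [← _root_.zpow_neg, ← _root_.zpow_add, ← zpow_natCast, ← _root_.zpow_mul, ← orderOf_dvd_iff_zpow_eq_one, hζ,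
      hk] at h2
    push_cast at h2
    rw [show ((k : ℤ) * u i + -((k : ℤ) * v i)) * 3 = (k : ℤ) * (3 * (u i - v i)) by ring, mul_comm (r : ℤ)] at h2
    have h3 := (mul_dvd_mul_iff_left (Int.natCast_ne_zero.2 hk0)).1 h2
    rw [ZMod.intCast_eq_intCast_iff_dvd_sub, show v i - u i = -(u i - v i) by ring]
    refine Dvd.dvd.neg_right (IsCoprime.dvd_of_dvd_mul_left ?_ h3)
    exact (Nat.isCoprime_iff_coprime (m := r) (n := 3)).2 ((Fact.out : r.Prime).coprime_iff_not_dvd.2 hr3')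
  have hy0 : ∃ i, (y i : ZMod r) ≠ 0 := by
    by_contra hno
    push Not at hno
    have h1 : te D ζ Y = te D ζ (0 : Fin D.rank → ℤ) := te_congr ζ hζ fun i => by
      rw [hy i, Pi.zero_apply, Int.cast_zero, ZMod.intCast_zmod_eq_zero_iff_dvd, hk]
      push_cast
      rw [mul_comm (r : ℤ)]
      exact mul_dvd_mul_left _ ((ZMod.intCast_zmod_eq_zero_iff_dvd _ _).1 (hno i))
    have h0 : te D ζ (0 : Fin D.rank → ℤ) = (1 : GL D.Idx K) := by
      rw [te, show zc ζ (0 : Fin D.rank → ℤ) = 1 from funext fun i => _root_.zpow_zero ζ, map_one]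
    have h2 : x = 1 := by rw [hxY, h1, h0, mul_one, mul_inv_cancel]
    rw [h2, orderOf_one] at hxr
    exact (Fact.out : r.Prime).one_lt.ne hxr
  -- the twisting element
  set n := g⁻¹ * phiG σ D g with hn
  have hnG : n ∈ D.group K := mul_mem (inv_mem hg) (phiG_group σ S hg)
  have hte_pow : ∀ z : Fin D.rank → ℤ, phiG σ D (te D ζ z) = te D ζ ((q : ℤ) • z) := by
    intro z
    rw [te, te, phiG_tG σ hσ]
    congr 1
    funext i
    simp only [Pi.pow_apply, zc, Pi.smul_apply, smul_eq_mul]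
    rw [← zpow_natCast, ← _root_.zpow_mul, mul_comm]
  have hnY : n * te D ζ ((q : ℤ) • Y) * n⁻¹ = te D ζ Y := by
    have h1 := hxfix (x₀ : GL D.Idx F)
    rw [← hxdef, hxY, map_mul, map_mul, map_inv, hte_pow,
      show phiG σ D g * te D ζ ((q : ℤ) • Y) * (phiG σ D g)⁻¹ = g * (n * te D ζ ((q : ℤ) • Y) * n⁻¹) * g⁻¹ by
        rw [hn]; group] at h1
    exact mul_left_cancel (mul_right_cancel h1)
  obtain ⟨L, v, d₁, u, hv, hd₁, hu, en, eL, ecu, ecv⟩ := conj_te S hN ζ hnG hnY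
  let w' : ↥S.WG := ⟨S.wpL L, S.wpL_mem_WG L⟩
  let w : ↥S.WG := w'⁻¹
  have hw' : matW S hU w' = matL D L := matW_eq S hU w' rfl
  have heig0 : ∀ i, ((matL D L *ᵥ ((q : ℤ) • y)) i : ZMod r) = (y i : ZMod r) := by
    refine hteq _ _ ?_
    rw [← Matrix.mulVec_smul, smul_comm, ← hYk]
    exact eL
  have hinvmul : ∀ z : Fin D.rank → ℤ, matW S hU w *ᵥ (matL D L *ᵥ z) = z := fun z => by
    rw [Matrix.mulVec_mulVec, ← hw', ← map_mul, inv_mul_cancel, map_one, Matrix.one_mulVec]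
  have hmulinv : ∀ z : Fin D.rank → ℤ, matL D L *ᵥ (matW S hU w *ᵥ z) = z := fun z => by
    rw [Matrix.mulVec_mulVec, ← hw', ← map_mul, mul_inv_cancel, map_one, Matrix.one_mulVec]
  have heig : ∀ i, ((matW S hU w *ᵥ y) i : ZMod r) = ((q : ℤ) : ZMod r) * (y i : ZMod r) := by
    intro i
    have h1 := congrFun (red_mulVec r (matW S hU w) (matL D L *ᵥ ((q : ℤ) • y))) i
    rw [hinvmul, funext heig0, congrFun (red_mulVec r (matW S hU w) y) i] at h1
    rw [h1]
    simp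
  obtain ⟨hchar, hreg⟩ := e6_element S hU hF hW hprim w hy0 heig
  have hregY : ∀ s : Fin D.nroots, ζ ^ chiZ D s Y ≠ 1 := by
    intro s h
    rw [← orderOf_dvd_iff_zpow_eq_one, hζ, hk, hYk] at h
    have e : chiZ D s ((k : ℤ) • y) = (k : ℤ) * chiZ D s y := by
      simp [chiZ, Finset.mul_sum, mul_left_comm]
    rw [e] at h
    push_cast at h
    rw [mul_comm (r : ℤ)] at h
    exact hreg s ((ZMod.intCast_zmod_eq_zero_iff_dvd _ _).2
      ((mul_dvd_mul_iff_left (Int.natCast_ne_zero.2 hk0)).1 h))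
  have hregqY : ∀ s : Fin D.nroots, ζ ^ chiZ D s ((q : ℤ) • Y) ≠ 1 := by
    intro s h
    rw [show chiZ D s ((q : ℤ) • Y) = (q : ℤ) * chiZ D s Y by simp [chiZ, Finset.mul_sum, mul_left_comm]] at h
    rw [← orderOf_dvd_iff_zpow_eq_one, hζ] at h
    refine hregY s ?_
    rw [← orderOf_dvd_iff_zpow_eq_one, hζ]
    refine (Int.isCoprime_iff_gcd_eq_one.2 ?_).dvd_of_dvd_mul_left h
    rw [Int.gcd_natCast_natCast, ← Nat.coprime_iff_gcd_eq_one, hNdef, hK]
    refine Nat.Coprime.symm (Nat.Coprime.coprime_dvd_left (dvd_pow_self q (n := 12) (by norm_num)) ?_)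
    exact (Nat.coprime_self_sub_right (Nat.one_le_pow _ _ (by omega))).2 (Nat.coprime_one_right _)
  rw [eq_one_of_commute_te S ζ Y hregY hv ecv, eq_one_of_commute_te S ζ _ hregqY (S.UPsi_le _ hu) ecu,
    one_mul, mul_one] at en
  rw [S.ok.diagonalSubgroup_eq] at hd₁
  obtain ⟨c₁, rfl⟩ := hd₁
  exact ⟨g, hg, L, c₁, y, w, rfl, en, heig, hchar, hreg⟩

end Cfsg.Lib.CyclicTorus
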